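import Cfsg.Prelude.Def_PLocal
import Cfsg.Agent.Lib.Fusion.NormExt
import Cfsg.Agent.Lib.Fusion.ModT
import Cfsg.Agent.Lib.Fusion.Alperin
import Cfsg.Agent.Lib.Fusion.ThompsonA

/-!
Subgroups with an automorphism moving a central subgroup `T`, and morphisms fixing `T`.
-/

set_option autoImplicit false

namespace Cfsg.Agent.Lib.WeakClosure87

open Cfsg Cfsg.FusionSystem
open Cfsg.Agent.Lib.Fusion

universe u

variable {Ω : Type u} [Group Ω] {S T : Subgroup Ω} {F : FusionSystem S} {p : ℕ}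

/-- `Y` contains `T` and some automorphism of it in the system moves `T`. -/
def IsBad (F : FusionSystem S) (T Y : Subgroup Ω) : Prop :=
  T ≤ Y ∧ Y ≤ S ∧ ∃ α ∈ F.autGroup Y, ∃ x : Y, (x : Ω) ∈ T ∧ ((α x : Y) : Ω) ∉ T

theorem aut_fix_of_not_isBad [Finite S] {Y : Subgroup Ω} (hY : Y ≤ S) (hTY : T ≤ Y)
    (h : ¬ IsBad F T Y) {α : MulAut Y} (hα : α ∈ F.autGroup Y) (x : Y) :
    ((x : Ω) ∈ T ↔ ((α x : Y) : Ω) ∈ T) := by
  have h1 : ∀ (β : MulAut Y), β ∈ F.autGroup Y → ∀ z : Y, (z : Ω) ∈ T → ((β z : Y) : Ω) ∈ T :=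
    fun β hβ z hz => by
      by_contra hne
      exact h ⟨hTY, hY, β, hβ, z, hz, hne⟩
  refine ⟨h1 α hα x, fun hx => ?_⟩
  have := h1 α⁻¹ (Subgroup.inv_mem _ hα) (α x) hx
  simpa using this

theorem mem_centralizerIn_of_central (hT : T ≤ S ⊓ Subgroup.centralizer (S : Set Ω))
    {R : Subgroup Ω} (hR : R ≤ S) : T ≤ centralizerIn S R := fun _ ht =>
  ⟨(hT ht).1, Subgroup.mem_centralizer_iff.2 fun r hr =>
    Subgroup.mem_centralizer_iff.1 (hT ht).2 r (hR hr)⟩

/-- Morphisms from large subgroups fix `T` if no automorphism group of a large subgroup moves it. -/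
theorem fixes_of_not_isBad [Finite S] [Fact p.Prime] (hS : IsPGroup p S) (hF : F.IsSaturated p)
    (hT : T ≤ S ⊓ Subgroup.centralizer (S : Set Ω)) (n : ℕ)
    (hno : ∀ R : Subgroup Ω, F.IsFullyAutomized p R → F.IsReceptive R → n ≤ Nat.card R →
      ¬ IsBad F T R) {P : Subgroup Ω} {φ : P →* Ω} (hφ : φ ∈ F.Hom P) (hP : n ≤ Nat.card P)
    (x : P) : ((x : Ω) ∈ T ↔ φ x ∈ T) := by
  refine hom_induction hS hF
    (fun P φ => n ≤ Nat.card P → ∀ x : P, ((x : Ω) ∈ T ↔ φ x ∈ T)) ?_ ?_ ?_ ?_ P φ hφ hP x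
  · intro P Q φ h hφ hC hn x
    haveI := finite_of_le (src_le hφ)
    exact hC (hn.trans (Subgroup.card_le_of_le h)) (Subgroup.inclusion h x)
  · intro P Q φ χ ψ hφ hψ hχ hC hC' hn x
    obtain ⟨hx, e⟩ := hχ x
    haveI := finite_of_le (src_le hψ)
    have hQ : n ≤ Nat.card Q := hn.trans (Nat.card_le_card_of_injective
      (fun y : P => (⟨φ y, (hχ y).1⟩ : Q)) fun a b h => F.injective_of_mem hφ (congrArg Subtype.val h))
    rw [e]
    exact (hC hn x).trans (hC' hQ ⟨φ x, hx⟩)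
  · intro P Q φ ψ hφ _ hr h1 hC hn y
    obtain ⟨y, hy⟩ := y
    obtain ⟨x, rfl⟩ := hr.ge hy
    rw [h1 x hy]
    refine (hC ?_ x).symm
    rwa [← card_range hφ, hr]
  · intro R hRa hRr hbig α hα hn x
    rw [autHom_apply]
    by_cases hTR : T ≤ R
    · exact aut_fix_of_not_isBad hRr.1 hTR (hno R hRa hRr hn) hα x
    obtain ⟨ψ, hψ, hag⟩ := hRr.2 R (autHom α) (autGroup_hom_mem hRr.1 hα) (range_autHom α)
    have hle : R ⊔ centralizerIn S R ≤ extender S R (autHom α) :=
      sup_centralizerIn_le_extender (autGroup_hom_mem hRr.1 hα)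
    haveI := finite_of_le (src_le hψ)
    have hlt : R < extender S R (autHom α) := lt_of_le_of_ne (le_sup_left.trans hle) fun h =>
      hTR ((mem_centralizerIn_of_central hT hRr.1).trans (le_sup_right.trans (h.symm ▸ hle)))
    have hcard : Nat.card R < Nat.card (extender S R (autHom α)) :=
      lt_of_le_of_ne (Subgroup.card_le_of_le hlt.le) fun h =>
        hlt.ne (Subgroup.eq_of_le_of_card_ge hlt.le h.ge)
    have h := hbig _ hcard ψ hψ (hn.trans hcard.le) ⟨x, hlt.le x.2⟩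
    rw [hag x x.2 (hlt.le x.2)] at h
    exact h

theorem isBad_map [Finite S] {Y N : Subgroup Ω} (hb : IsBad F T Y) (hYN : Y ≤ N) {ψ : N →* Ω}
    (hψ : ψ ∈ F.Hom N) (hfix : ∀ x : N, ((x : Ω) ∈ T ↔ ψ x ∈ T)) :
    IsBad F T (imgSub ψ Y) := by
  obtain ⟨hTY, hYS, α, hα, x, hx, hαx⟩ := hb
  set φ := ψ.comp (Subgroup.inclusion hYN) with hφdef
  have hφ : φ ∈ F.Hom Y := restrict_mem hψ hYN
  have hr : φ.range = imgSub ψ Y := range_restrict ψ hYN
  have hfix' : ∀ y : Y, ((y : Ω) ∈ T ↔ φ y ∈ T) := fun y => hfix (Subgroup.inclusion hYN y)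
  haveI := finite_of_le hYS
  have hTimg : T ≤ imgSub ψ Y := by
    set Ty := T.subgroupOf Y with hTy
    have h1 : Ty.map φ ≤ T := by
      rintro _ ⟨y, hy, rfl⟩
      exact (hfix' y).1 hy
    haveI : Finite T := finite_of_le (hTY.trans hYS)
    have h2 : Ty.map φ = T := Subgroup.eq_of_le_of_card_ge h1 (by
      rw [Subgroup.card_map_of_injective (F.injective_of_mem hφ),
        Nat.card_congr (Subgroup.subgroupOfEquivOfLe hTY).toEquiv])
    rw [← hr, ← h2]
    exact Subgroup.map_le_range _ _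
  set e := isoOnto φ (F.injective_of_mem hφ) hr with he
  refine ⟨hTimg, hr ▸ range_le hφ, MulAut.congr e α,
    congr_mem_autGroup e (mem_congr hφ fun y => rfl) hα, e x, ?_, ?_⟩
  · exact (hfix' x).1 hx
  · intro h
    have h1 : MulAut.congr e α (e x) = e (α x) := by simp [MulAut.congr]
    rw [h1] at h
    exact hαx ((hfix' _).2 h)

/-- A map with source containing `J(N)` and image in `N` carries `J(N)` into itself. -/
theorem apply_mem_thompson {N P : Subgroup Ω} {φ : P →* Ω} (hinj : Function.Injective φ)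
    (hJ : thompsonSubgroupAOf N ≤ P) (hN : ∀ x : P, (x : Ω) ∈ thompsonSubgroupAOf N → φ x ∈ N)
    (x : P) (hx : (x : Ω) ∈ thompsonSubgroupAOf N) : φ x ∈ thompsonSubgroupAOf N := by
  suffices h : thompsonSubgroupAOf N ≤ ((thompsonSubgroupAOf N).comap φ).map P.subtype by
    obtain ⟨y, hy, e⟩ := h hx
    rwa [← Subtype.ext e]
  have hle : thompsonSubgroupA N ≤
      (((thompsonSubgroupAOf N).comap φ).map P.subtype).comap N.subtype := by
    refine sSup_le fun A hA => ?_
    intro a ha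
    have hAP : ∀ b ∈ A, (b : Ω) ∈ P := fun b hb => hJ ⟨b, le_sSup (a := A) hA hb, rfl⟩
    let g : A →* Ω := φ.comp ((N.subtype.comp A.subtype).codRestrict P fun b => hAP b b.2)
    have hg : Function.Injective g := fun b c h =>
      Subtype.ext (Subtype.ext (congrArg (fun z : P => (z : Ω)) (hinj h)))
    have hgN : ∀ b : A, g b ∈ N := fun b => hN _ ⟨b, le_sSup (a := A) hA b.2, rfl⟩
    let g' : A →* N := g.codRestrict N hgN
    have hg' : Function.Injective g' := fun b c h => hg (congrArg (fun z : N => (z : Ω)) h)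
    have hB : g'.range ∈ maxAbelianSubgroups N := by
      refine ⟨⟨⟨fun b c => ?_⟩⟩, fun B hB => ?_⟩
      · obtain ⟨_, b, rfl⟩ := b
        obtain ⟨_, c, rfl⟩ := c
        refine Subtype.ext ?_
        show g' b * g' c = g' c * g' b
        haveI := hA.1
        rw [← map_mul, ← map_mul]
        exact congrArg g' (Subtype.ext (setLike_mul_comm b.2 c.2))
      · rw [← Nat.card_congr (MonoidHom.ofInjective hg').toEquiv]
        exact hA.2 B hB
    exact ⟨⟨a, hAP a ha⟩, ⟨g' ⟨a, ha⟩, le_sSup (a := g'.range) hB ⟨_, rfl⟩, rfl⟩, rfl⟩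
  rintro _ ⟨a, ha, rfl⟩
  exact hle ha

theorem normalizer_le_normalizer_thompson (N : Subgroup Ω) :
    Subgroup.normalizer (N : Set Ω) ≤ Subgroup.normalizer (thompsonSubgroupAOf N : Set Ω) := by
  have key : ∀ g ∈ Subgroup.normalizer (N : Set Ω), ∀ x ∈ thompsonSubgroupAOf N,
      g * x * g⁻¹ ∈ thompsonSubgroupAOf N := fun g hg x hx =>
    apply_mem_thompson (φ := conjHom N g)
      (fun a b h => Subtype.ext ((MulAut.conj g).injective h)) (thompsonSubgroupAOf_le N)
      (fun y _ => (Subgroup.mem_normalizer_iff.1 hg y).1 y.2)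
      ⟨x, thompsonSubgroupAOf_le N hx⟩ hx
  intro g hg
  rw [Subgroup.mem_normalizer_iff]
  refine fun x => ⟨key g hg x, fun hx => ?_⟩
  have := key g⁻¹ (inv_mem hg) _ hx
  simpa [mul_assoc] using this

theorem le_thompson [Finite S] (hT : T ≤ S ⊓ Subgroup.centralizer (S : Set Ω)) {N : Subgroup Ω}
    (hTN : T ≤ N) (hNS : N ≤ S) : T ≤ thompsonSubgroupAOf N := by
  haveI := finite_of_le hNS
  intro t ht
  refine ⟨⟨t, hTN ht⟩, inf_le_left (a := thompsonSubgroupA N) (center_le_zjA N ?_), rfl⟩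
  rw [Subgroup.mem_center_iff]
  exact fun y => Subtype.ext (Subgroup.mem_centralizer_iff.1 (hT ht).2 y (hNS y.2))

/-- If `N_F(J(S))` lies in `N_F(T)`, automorphisms of subgroups containing `J(S)` and `T` fixing
`J(S)` fix `T`. -/
theorem not_isBad_of_thompson_le [Finite S] (hT : T ≤ S ⊓ Subgroup.centralizer (S : Set Ω))
    (hJT : ∀ NJ : FusionSystem (normalizerIn S (thompsonSubgroupAOf S)),
      F.IsNormalizerSystem (thompsonSubgroupAOf S) NJ →
      ∀ NT : FusionSystem (normalizerIn S T), F.IsNormalizerSystem T NT → NJ.IsSubsystemOf NT)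
    {Y : Subgroup Ω} {α : MulAut Y} (hα : α ∈ F.autGroup Y) (hYS : Y ≤ S)
    (hJY : thompsonSubgroupAOf S ≤ Y) (x : Y) (hx : (x : Ω) ∈ T) : ((α x : Y) : Ω) ∈ T := by
  set J := thompsonSubgroupAOf S with hJdef
  have hJS : J ≤ S := thompsonSubgroupAOf_le S
  have hTS : T ≤ S := hT.trans inf_le_left
  haveI := finite_of_le hYS
  have hSJ : S ≤ normalizerIn S J :=
    le_inf le_rfl (Subgroup.le_normalizer.trans (normalizer_le_normalizer_thompson S))
  have hφ : autHom α ∈ F.Hom Y := autGroup_hom_mem hYS hα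
  have hmem : autHom α ∈ F.normalizerHom J Y := by
    refine ⟨hφ, hYS.trans hSJ, fun y => hSJ (val_mem hφ y), ?_⟩
    have hle : Y ⊔ J ≤ Y := sup_le le_rfl hJY
    refine ⟨(autHom α).comp (Subgroup.inclusion hle), restrict_mem hφ hle, fun y => rfl, ?_⟩
    haveI := finite_of_le (hle.trans hYS)
    haveI := finite_of_le hJS
    refine Subgroup.eq_of_le_of_card_ge ?_ ?_
    · rintro _ ⟨y, hy, rfl⟩
      exact apply_mem_thompson (F.injective_of_mem hφ) hJY (fun z _ => val_mem hφ z) _ hy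
    · rw [Subgroup.card_map_of_injective (f := (autHom α).comp (Subgroup.inclusion hle))
        (fun a b h => Subgroup.inclusion_injective hle (F.injective_of_mem hφ h)),
        Nat.card_congr (Subgroup.subgroupOfEquivOfLe (le_sup_right : J ≤ Y ⊔ J)).toEquiv]
  obtain ⟨NJ, hNJ⟩ := exists_normalizerSystem F hJS
  obtain ⟨NT, hNT⟩ := exists_normalizerSystem F hTS
  have h := hJT NJ hNJ NT hNT Y (a := autHom α) (by rw [hNJ]; exact hmem)
  rw [hNT] at h
  obtain ⟨-, -, -, ψ, -, hag, hmap⟩ := h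
  have h1 : ψ (Subgroup.inclusion le_sup_left x) ∈ T := hmap.le ⟨_, hx, rfl⟩
  rwa [hag] at h1

end Cfsg.Agent.Lib.WeakClosure87
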