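import Mathlib
import Cfsg.Agent.Lib.SL2.Basic

/-!
An element of `SL(2, F)` with a prescribed eigenvector, and the fixed line of a non-identity element.
-/

set_option autoImplicit false

namespace Cfsg.Agent.Lib.WeakClosure87

open Matrix
open Cfsg.Agent.Lib.SL2 (SLtwo ofEntries)

variable {F : Type*} [Field F]

/-- A matrix of determinant one with first column `u`. -/
theorem exists_col (u : Fin 2 → F) (hu : u ≠ 0) :
    ∃ g : SLtwo F, (g : Matrix (Fin 2) (Fin 2) F) *ᵥ ![1, 0] = u := by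
  by_cases h0 : u 0 = 0
  · have h1 : u 1 ≠ 0 := fun h => hu (funext fun i => by fin_cases i <;> assumption)
    refine ⟨ofEntries (u 0) (-(u 1)⁻¹) (u 1) 0 (by field_simp; ring), ?_⟩
    funext i
    fin_cases i <;> simp [Matrix.mulVec, dotProduct, Fin.sum_univ_two]
  · refine ⟨ofEntries (u 0) 0 (u 1) (u 0)⁻¹ (by field_simp; ring), ?_⟩
    funext i
    fin_cases i <;> simp [Matrix.mulVec, dotProduct, Fin.sum_univ_two]

/-- A diagonalisable element with eigenvalue `c` at `u`. -/
theorem exists_eigen (u : Fin 2 → F) (hu : u ≠ 0) (c : Fˣ) :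
    ∃ h : SLtwo F, (∀ n : ℕ, c ^ n = 1 → h ^ n = 1) ∧
      (h : Matrix (Fin 2) (Fin 2) F) *ᵥ u = (c : F) • u := by
  obtain ⟨g, hg⟩ := exists_col u hu
  set d : SLtwo F := ofEntries (c : F) 0 0 ((c⁻¹ : Fˣ) : F) (by simp) with hd
  have hdpow : ∀ n : ℕ, ((d ^ n : SLtwo F) : Matrix (Fin 2) (Fin 2) F) =
      !![((c ^ n : Fˣ) : F), 0; 0, (((c ^ n)⁻¹ : Fˣ) : F)] := by
    intro n
    induction n with
    | zero => simp [Matrix.one_fin_two]
    | succ n ih =>
      rw [pow_succ, Matrix.SpecialLinearGroup.coe_mul, ih, hd, SL2.ofEntries_coe, pow_succ]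
      simp [Matrix.mul_fin_two, mul_comm]
  refine ⟨g * d * g⁻¹, fun n hn => ?_, ?_⟩
  · rw [conj_pow]
    have : d ^ n = 1 := Matrix.SpecialLinearGroup.ext _ _ fun i j => by
      rw [hdpow, hn]
      simp [Matrix.one_fin_two]
    rw [this, mul_one, mul_inv_cancel]
  · conv_lhs => rw [← hg]
    rw [Matrix.SpecialLinearGroup.coe_mul, Matrix.SpecialLinearGroup.coe_mul,
      Matrix.mulVec_mulVec, mul_assoc, mul_assoc]
    rw [← Matrix.SpecialLinearGroup.coe_mul g⁻¹ g, inv_mul_cancel,
      Matrix.SpecialLinearGroup.coe_one, mul_one, ← Matrix.mulVec_mulVec]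
    have : (d : Matrix (Fin 2) (Fin 2) F) *ᵥ ![1, 0] = (c : F) • ![1, 0] := by
      funext i
      fin_cases i <;> simp [hd, Matrix.mulVec, dotProduct, Fin.sum_univ_two]
    rw [this, Matrix.mulVec_smul, hg]

/-- The fixed vectors of a non-identity element lie on one line. -/
theorem exists_smul_of_fixed {g : SLtwo F} (hg : g ≠ 1) {u w : Fin 2 → F} (hu : u ≠ 0)
    (hgu : (g : Matrix (Fin 2) (Fin 2) F) *ᵥ u = u)
    (hgw : (g : Matrix (Fin 2) (Fin 2) F) *ᵥ w = w) : ∃ c : F, w = c • u := by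
  by_cases hdet : u 0 * w 1 - u 1 * w 0 = 0
  · by_cases h0 : u 0 = 0
    · have h1 : u 1 ≠ 0 := fun h => hu (funext fun i => by fin_cases i <;> assumption)
      refine ⟨w 1 / u 1, funext fun i => ?_⟩
      have hw : w 0 = 0 := by
        rw [h0] at hdet
        simpa [h1] using hdet
      fin_cases i <;> simp [h0, hw, div_mul_cancel₀ _ h1]
    · refine ⟨w 0 / u 0, funext fun i => ?_⟩
      fin_cases i
      · simp [div_mul_cancel₀ _ h0]
      · simp only [Pi.smul_apply, smul_eq_mul, Fin.mk_one, Fin.isValue]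
        field_simp
        linear_combination hdet
  · refine absurd (Matrix.SpecialLinearGroup.ext _ _ fun i j => ?_) hg
    have hu0 := congrFun hgu i
    have hw0 := congrFun hgw i
    simp only [Matrix.mulVec, dotProduct, Fin.sum_univ_two] at hu0 hw0
    fin_cases i <;> fin_cases j <;>
      simp only [Matrix.SpecialLinearGroup.coe_one, Matrix.one_apply, Fin.zero_eta, Fin.mk_one,
        Fin.isValue] at hu0 hw0 ⊢ <;>
      simp only [Fin.isValue, ↓reduceIte, zero_ne_one, one_ne_zero] <;>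
      refine mul_left_cancel₀ hdet ?_
    · linear_combination w 1 * hu0 - u 1 * hw0
    · linear_combination u 0 * hw0 - w 0 * hu0
    · linear_combination w 1 * hu0 - u 1 * hw0
    · linear_combination u 0 * hw0 - w 0 * hu0

end Cfsg.Agent.Lib.WeakClosure87
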