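import Mathlib
import Cfsg.Agent.Lib.SL2Recog.Reduce
import Cfsg.Agent.Lib.WeakClosure87.SL2Aux87

/-!
A torus element for a minimal offender generating with each conjugate outside the stabiliser of a
subgroup of fixed vectors.
-/

set_option autoImplicit false

namespace Cfsg.Agent.Lib.WeakClosure87

open Subgroup Matrix
open Cfsg.Agent.Lib.SL2Recog
open Cfsg.Agent.Lib.SL2 (SLtwo)

variable {L W : Type*} [Group L] [AddCommGroup W] [DistribMulAction L W] {p : ℕ}

/-- The elements killed by `p`. -/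
def tors (W : Type*) [AddCommGroup W] (p : ℕ) : AddSubgroup W where
  carrier := {w | p • w = 0}
  zero_mem' := smul_zero p
  add_mem' := fun {v w} hv hw => by rw [Set.mem_setOf_eq, smul_add, hv, hw, add_zero]
  neg_mem' := fun {v} hv => by rw [Set.mem_setOf_eq, smul_neg, hv, neg_zero]

theorem mem_tors {w : W} : w ∈ tors W p ↔ p • w = 0 := Iff.rfl

theorem smul_mem_tors (g : L) {w : W} (hw : w ∈ tors W p) : g • w ∈ tors W p := by
  rw [mem_tors, ← smul_comm, mem_tors.1 hw, smul_zero]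

instance torsAction : DistribMulAction L (tors W p) where
  smul g w := ⟨g • (w : W), smul_mem_tors g w.2⟩
  one_smul w := Subtype.ext (one_smul L (w : W))
  mul_smul g h w := Subtype.ext (mul_smul g h (w : W))
  smul_zero g := Subtype.ext (smul_zero g)
  smul_add g v w := Subtype.ext (smul_add g (v : W) w)

theorem coe_smul_tors (g : L) (w : tors W p) : ((g • w : tors W p) : W) = g • (w : W) := rfl

theorem mem_fx_tors {B : Subgroup L} {w : tors W p} : w ∈ fx (tors W p) B ↔ (w : W) ∈ fx W B :=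
  ⟨fun h b hb => congrArg Subtype.val (h b hb), fun h b hb => Subtype.ext (h b hb)⟩

theorem card_fx_tors (B : Subgroup L) :
    Nat.card (fx (tors W p) B) = Nat.card ↥(tors W p ⊓ fx W B) :=
  Nat.card_congr ⟨fun w => ⟨((w : tors W p) : W), (w : tors W p).2, mem_fx_tors.1 w.2⟩,
    fun w => ⟨⟨w, w.2.1⟩, mem_fx_tors.2 w.2.2⟩, fun _ => rfl, fun _ => rfl⟩

variable [Finite W]

theorem meas_tors_le (B : Subgroup L) (hB : Nat.card W ≤ meas W B) :
    Nat.card (tors W p) ≤ meas (tors W p) B := by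
  rw [meas, card_fx_tors]
  refine Nat.le_of_mul_le_mul_right ?_ (Nat.card_pos : 0 < Nat.card (fx W B))
  calc Nat.card (tors W p) * Nat.card (fx W B)
      ≤ Nat.card W * Nat.card ↥(tors W p ⊓ fx W B) := by
        simpa using card_mul_le_of_le (le_top : tors W p ≤ ⊤) (le_top : fx W B ≤ ⊤)
    _ ≤ meas W B * Nat.card ↥(tors W p ⊓ fx W B) := Nat.mul_le_mul_right _ hB
    _ = _ := by rw [meas]; ring

theorem meas_tors_lt {B B0 : Subgroup L} (hle : B0 ≤ B) (h : meas W B0 < meas W B) :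
    meas (tors W p) B0 < meas (tors W p) B := by
  rw [meas, meas, card_fx_tors, card_fx_tors]
  have h1 := card_mul_le_of_le (inf_le_right : tors W p ⊓ fx W B0 ≤ fx W B0) (fx_anti hle)
  rw [inf_assoc, inf_eq_right.2 (fx_anti hle)] at h1
  refine Nat.lt_of_mul_lt_mul_right (a := Nat.card (fx W B)) ?_
  calc Nat.card B0 * Nat.card ↥(tors W p ⊓ fx W B0) * Nat.card (fx W B)
      ≤ Nat.card B0 * (Nat.card (fx W B0) * Nat.card ↥(tors W p ⊓ fx W B)) := by
        rw [mul_assoc]; exact Nat.mul_le_mul_left _ h1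
    _ < Nat.card B * Nat.card (fx W B) * Nat.card ↥(tors W p ⊓ fx W B) := by
        rw [← mul_assoc]; exact Nat.mul_lt_mul_of_pos_right h Nat.card_pos
    _ = _ := by ring

theorem eq_zero_of_coprime_nsmul {k n : ℕ} {x : W} (hk : p ^ k • x = 0) (hn : n • x = 0)
    (hc : n.Coprime p) : x = 0 := by
  have h1 := addOrderOf_dvd_of_nsmul_eq_zero hk
  have h2 := addOrderOf_dvd_of_nsmul_eq_zero hn
  exact AddMonoid.addOrderOf_eq_one_iff.1 (Nat.eq_one_of_dvd_coprimes (hc.pow_right k) h2 h1)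

variable [Finite L] [hp : Fact p.Prime]

/-- A fixed vector of order `p` that is moved, from a fixed vector that is moved. -/
theorem exists_moved_tors (hWp : ∀ w : W, ∃ k : ℕ, p ^ k • w = 0) (S : Sylow p L) {t : W}
    (ht : ∀ s ∈ (S : Subgroup L), s • t = t) (htm : ∃ g : L, g • t ≠ t) :
    ∃ (t' z : W) (N : ℕ), (∃ j : ℕ, t' = j • t) ∧ p • z = 0 ∧
      (∀ s ∈ (S : Subgroup L), s • z = z) ∧ (∃ g : L, g • z ≠ z) ∧
      ∀ g : L, g • z - z = N • (g • t' - t') := by
  classical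
  obtain ⟨k, hk⟩ := hWp t
  have hex : ∃ j : ℕ, ∀ g : L, g • (p ^ j • t) = p ^ j • t := ⟨k, fun g => by rw [hk, smul_zero]⟩
  obtain ⟨g0, hg0⟩ := htm
  obtain ⟨j, hj⟩ : ∃ j, Nat.find hex = j + 1 := by
    refine Nat.exists_eq_succ_of_ne_zero fun h => hg0 ?_
    simpa [h] using Nat.find_spec hex g0
  set t' := p ^ j • t with ht'
  have hpt : ∀ g : L, g • (p • t') = p • t' := by
    intro g
    have := Nat.find_spec hex g
    rwa [hj, pow_succ', mul_smul] at this
  obtain ⟨g1, hg1⟩ : ∃ g : L, g • t' ≠ t' := by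
    simpa using Nat.find_min hex (show j < Nat.find hex by omega)
  have htS : ∀ s ∈ (S : Subgroup L), s • t' = t' := fun s hs => by
    rw [ht', smul_comm, ht s hs]
  letI : Fintype (L ⧸ (S : Subgroup L)) := Fintype.ofFinite _
  set N := Fintype.card (L ⧸ (S : Subgroup L)) with hN
  set τ := ∑ c : L ⧸ (S : Subgroup L), c.out • t' with hτ
  have hout : ∀ (g : L) (c : L ⧸ (S : Subgroup L)), (g • c).out • t' = g • c.out • t' := by
    intro g c
    have h1 : (((g • c).out : L) : L ⧸ (S : Subgroup L)) = ((g * c.out : L) : L ⧸ (S : Subgroup L)) := by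
      rw [QuotientGroup.out_eq']
      conv_lhs => rw [← QuotientGroup.out_eq' c]
      rfl
    rw [QuotientGroup.eq] at h1
    have h2 := htS _ h1
    rw [mul_smul, inv_smul_eq_iff] at h2
    rw [← mul_smul, h2]
  have hτfix : ∀ g : L, g • τ = τ := fun g => by
    rw [hτ, Finset.smul_sum]
    calc ∑ c : L ⧸ (S : Subgroup L), g • c.out • t'
        = ∑ c : L ⧸ (S : Subgroup L), (g • c).out • t' :=
          Finset.sum_congr rfl fun c _ => (hout g c).symm
      _ = _ := Fintype.sum_equiv (MulAction.toPerm g) _ _ fun c => rfl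
  have hdev : ∀ g : L, g • (τ - N • t') - (τ - N • t') = -(N • (g • t' - t')) := by
    intro g
    rw [smul_sub, hτfix, smul_comm g N t', smul_sub]
    abel
  have hNp : N.Coprime p := by
    have h := S.not_dvd_index
    rw [Subgroup.index_eq_card, Nat.card_eq_fintype_card] at h
    exact ((Nat.Prime.coprime_iff_not_dvd hp.out).2 h).symm
  refine ⟨t', -(τ - N • t'), N, ⟨p ^ j, rfl⟩, ?_, fun s hs => ?_, ?_, fun g => ?_⟩
  · rw [smul_neg, neg_eq_zero, smul_sub, sub_eq_zero, hτ, Finset.smul_sum]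
    calc ∑ c : L ⧸ (S : Subgroup L), p • c.out • t'
        = ∑ _c : L ⧸ (S : Subgroup L), p • t' := Finset.sum_congr rfl fun c _ => by
          rw [← smul_comm, hpt]
      _ = _ := by rw [Finset.sum_const, Finset.card_univ, smul_comm]
  · have h := hdev s
    rw [htS s hs, sub_self, smul_zero, neg_zero, sub_eq_zero] at h
    rw [smul_neg, h]
  · refine ⟨g1, fun h => hg1 ?_⟩
    have h' := hdev g1
    rw [smul_neg, neg_inj] at h
    rw [h, sub_self, eq_comm, neg_eq_zero] at h'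
    obtain ⟨l, hl⟩ := hWp (g1 • t' - t')
    exact sub_eq_zero.1 (eq_zero_of_coprime_nsmul hl h' hNp)
  · have := hdev g
    rw [smul_neg, neg_sub_neg, ← neg_sub (g • (τ - N • t')), this, neg_neg]

/-- **The torus.** -/
theorem exists_torus [FaithfulSMul L W] (hfV : FaithfulSMul L (tors W p)) (hp2 : p ≠ 2)
    (hWp : ∀ w : W, ∃ k : ℕ, p ^ k • w = 0) (T : AddSubgroup W) (S : Sylow p L) (M B : Subgroup L)
    (hSM : (S : Subgroup L) ≤ M) (hM : ∀ g, g ∈ M ↔ ∀ t ∈ T, g • t ∈ T) (hMne : M ≠ ⊤)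
    (hfix : ∀ s ∈ (S : Subgroup L), ∀ t ∈ T, s • t = t)
    (hBS : B ≤ S) (hB1 : B ≠ ⊥) (hpow : ∀ a ∈ B, a ^ p = 1)
    (hcomm : ∀ a ∈ B, ∀ b ∈ B, a * b = b * a) (hgen : ∀ x : L, x ∉ M → B ⊔ cnj x B = ⊤)
    (hcard : Nat.card W ≤ meas W B)
    (hstrict : ∀ B0 : Subgroup L, B0 ≤ B → B0 ≠ ⊥ → B0 ≠ B → meas W B0 < meas W B) :
    ∃ (h : L) (m : ℕ), h ∈ M ∧ h ^ m = 1 ∧ m.Coprime p ∧ (∃ t ∈ T, h • t ≠ t) ∧
      ∀ a b : W, a ∈ AddSubgroup.closure {d | ∃ i : ℕ, ∃ t ∈ T, d = h ^ i • t - t} →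
        b ∈ AddSubgroup.closure {d | ∃ i : ℕ, ∃ t ∈ T, d = h ^ i • t - t} →
        a ≠ 0 → b ≠ 0 → ∃ i : ℕ, h ^ i • a = b := by
  classical
  obtain ⟨x, hx⟩ : ∃ x : L, x ∉ M := by
    by_contra! h
    exact hMne ((eq_top_iff' M).2 h)
  obtain ⟨t, htT, htm⟩ : ∃ t ∈ T, ∃ g : L, g • t ≠ t := by
    by_contra! h
    exact hx ((hM x).2 fun t ht => (h t ht x).symm ▸ ht)
  obtain ⟨t', z0, N, ⟨j, hj⟩, hz0p, hz0S, ⟨g1, hg1⟩, hz0dev⟩ :=
    exists_moved_tors hWp S (fun s hs => hfix s hs t htT) htm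
  have ht'T : t' ∈ T := hj ▸ T.nsmul_mem htT j
  set z : tors W p := ⟨z0, hz0p⟩ with hz
  obtain ⟨F, fF, fi, hF, -, ρ, π, hπs, hπ0, hπ⟩ := exists_natural_model (W := tors W p) S M B
    (fun w => Subtype.ext w.2) hpow hcomm hSM hMne hBS hgen (meas_tors_le B hcard)
    (fun B0 h1 h2 h3 => meas_tors_lt h1 (hstrict B0 h1 h2 h3)) z
    (fun s hs => Subtype.ext (hz0S s hs)) ⟨g1, fun h => hg1 (congrArg Subtype.val h)⟩
  set u := π z with hu
  have hu0 : u ≠ 0 := fun h => hg1 (congrArg Subtype.val ((hπ0 z).1 h g1 (mem_top g1)))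
  obtain ⟨b0, hb0, hb01⟩ := (nontrivial_iff_exists_ne_one B).1
    ((Subgroup.nontrivial_iff_ne_bot B).2 hB1)
  have hρb : ρ b0 ≠ 1 := fun h => hb01 (ρ.injective (h.trans ρ.map_one.symm))
  have hzB : z ∈ fx (tors W p) B := fun b hb => Subtype.ext (hz0S b (hBS hb))
  have hline : ∀ v ∈ fx (tors W p) B, ∃ c : F, π v = c • u := by
    intro v hv
    refine exists_smul_of_fixed hρb hu0 ?_ ?_
    · rw [hu, ← hπ, hzB b0 hb0]
    · rw [← hπ, hv b0 hb0]
  -- the fixed vectors of `B` map onto the line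
  set C := fx (tors W p) B with hC
  set πC := π.comp C.subtype with hπC
  have hker : Nat.card πC.ker = Nat.card (fix0 L (tors W p)) := Nat.card_congr
    ⟨fun v => ⟨((v : C) : tors W p), (hπ0 _).1 v.2⟩,
      fun v => ⟨⟨(v : tors W p), fix0_le B v.2⟩, (hπ0 _).2 v.2⟩, fun _ => rfl, fun _ => rfl⟩
  have hcardC : Nat.card C = Nat.card πC.range * Nat.card (fix0 L (tors W p)) := by
    rw [AddSubgroup.card_eq_card_quotient_mul_card_addSubgroup πC.ker,
      Nat.card_congr (QuotientAddGroup.quotientKerEquivRange πC).toEquiv, hker]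
  have hker' : Nat.card π.ker = Nat.card (fix0 L (tors W p)) := Nat.card_congr
    ⟨fun v => ⟨v, (hπ0 _).1 v.2⟩, fun v => ⟨v, (hπ0 _).2 v.2⟩, fun _ => rfl, fun _ => rfl⟩
  have hcardV : Nat.card (tors W p) =
      Nat.card F * Nat.card F * Nat.card (fix0 L (tors W p)) := by
    rw [AddSubgroup.card_eq_card_quotient_mul_card_addSubgroup π.ker,
      Nat.card_congr (QuotientAddGroup.quotientKerEquivOfSurjective π hπs).toEquiv, hker',
      Nat.card_fun, Nat.card_eq_fintype_card (α := Fin 2), Fintype.card_fin, sq]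
  have hBF : Nat.card B = Nat.card F := by rw [Nat.card_eq_fintype_card (α := F), hF]
  have hle : (πC.range : Set (Fin 2 → F)) ⊆ Set.range fun c : F => c • u := by
    rintro _ ⟨v, rfl⟩
    obtain ⟨c, hc⟩ := hline v v.2
    exact ⟨c, hc.symm⟩
  have hranle : Nat.card πC.range ≤ Nat.card F :=
    (Nat.card_mono (Set.toFinite _) hle).trans (Finite.card_range_le _)
  have hV := meas_tors_le (p := p) B hcard
  rw [meas, hcardC, hcardV, hBF, ← mul_assoc, mul_assoc (Nat.card F) (Nat.card F),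
    mul_assoc (Nat.card F) (Nat.card πC.range)] at hV
  have hran : Nat.card πC.range = Nat.card F :=
    le_antisymm hranle (Nat.le_of_mul_le_mul_right (Nat.le_of_mul_le_mul_left hV Nat.card_pos)
      Nat.card_pos)
  have hrange : (πC.range : Set (Fin 2 → F)) = Set.range fun c : F => c • u :=
    Set.eq_of_subset_of_ncard_le hle ((Set.ncard_range_of_injective fun a b h => by
      obtain ⟨i, hi⟩ := Function.ne_iff.1 hu0
      exact mul_right_cancel₀ hi (congrFun h i)).trans_le hran.ge) (Set.toFinite _)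
  have hfxB : ∀ v : tors W p, (∃ c : F, π v = c • u) → v ∈ C := by
    rintro v ⟨c, hc⟩
    obtain ⟨w, hw⟩ := hrange.ge ⟨c, rfl⟩
    have h0 : v - (w : tors W p) ∈ fix0 L (tors W p) := (hπ0 _).1 (by
      rw [map_sub, hc, sub_eq_zero]; exact hw.symm)
    simpa using C.add_mem (fix0_le B h0) w.2
  -- the element
  obtain ⟨lam, hlam⟩ := IsCyclic.exists_generator (α := Fˣ)
  obtain ⟨hm, hhm, hheig⟩ := exists_eigen u hu0 lam
  set h := ρ.symm hm with hh
  set m := Nat.card Fˣ with hm'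
  have hh1 : h ^ m = 1 := by rw [hh, ← map_pow, hhm m (pow_card_eq_one'), map_one]
  have hsmul : ∀ (i : ℕ) (v : tors W p) (c : F), π v = c • u →
      π (h ^ i • v) = ((lam : F) ^ i * c) • u := by
    intro i v c hv
    induction i with
    | zero => simpa using hv
    | succ i ih =>
      rw [pow_succ' h, mul_smul, hπ, ih, hh, MulEquiv.apply_symm_apply, Matrix.mulVec_smul, hheig,
        smul_smul, pow_succ]
      congr 1
      ring
  have hu1 : π z = (1 : F) • u := (one_smul F u).symm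
  have hpB : p ∣ Nat.card F := by
    rw [← hBF, ← orderOf_eq_prime (hpow b0 hb0) hb01]
    exact (Subgroup.orderOf_coe (⟨b0, hb0⟩ : B)).symm ▸ orderOf_dvd_natCard _
  have hmF : m + 1 = Nat.card F := by
    rw [hm', Nat.card_units]; exact Nat.sub_add_cancel Nat.card_pos
  have hcop : m.Coprime p := by
    refine ((Nat.Prime.coprime_iff_not_dvd hp.out).2 fun hdvd => ?_).symm
    exact hp.out.ne_one (Nat.dvd_one.1 ((Nat.dvd_add_right hdvd).1 (hmF ▸ hpB)))
  have hlam1 : (lam : F) ≠ 1 := by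
    intro h1
    have hl : lam = 1 := Units.ext h1
    have hm1 : m = 1 := by
      rw [hm', Nat.card_eq_one_iff_unique]
      refine ⟨⟨fun a b => ?_⟩, ⟨1⟩⟩
      obtain ⟨i, rfl⟩ := hlam a
      obtain ⟨k, rfl⟩ := hlam b
      simp [hl]
    have h2 : Nat.card F = 2 := by omega
    rw [h2] at hpB
    exact hp2 ((Nat.prime_dvd_prime_iff_eq hp.out Nat.prime_two).1 hpB)
  have hzmove : h • z ≠ z := by
    intro hz'
    have h1 := hsmul 1 z 1 hu1
    rw [pow_one, pow_one, hz', hu1, mul_one] at h1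
    obtain ⟨i, hi⟩ := Function.ne_iff.1 hu0
    exact hlam1 (mul_right_cancel₀ hi (congrFun h1 i)).symm
  have hhM : h ∈ M := by
    by_contra hhM
    refine hg1 ?_
    have htop := hgen h hhM
    have h1 : h⁻¹ • z ∈ C := by
      refine hfxB _ ⟨((lam⁻¹ : Fˣ) : F), ?_⟩
      have h2 := hπ h (h⁻¹ • z)
      rw [smul_inv_smul, ← hu, hh, MulEquiv.apply_symm_apply, ← hh] at h2
      have h3 : ((hm : SLtwo F) : Matrix (Fin 2) (Fin 2) F) *ᵥ (((lam⁻¹ : Fˣ) : F) • u) = u := by
        rw [Matrix.mulVec_smul, hheig, smul_smul, Units.inv_mul, one_smul]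
      have h4 := congrArg ((((hm⁻¹ : SLtwo F)) : Matrix (Fin 2) (Fin 2) F) *ᵥ ·) (h3.trans h2)
      simp only [Matrix.mulVec_mulVec, ← Matrix.SpecialLinearGroup.coe_mul, inv_mul_cancel,
        Matrix.SpecialLinearGroup.coe_one, Matrix.one_mulVec] at h4
      exact h4.symm
    have h2 : z ∈ fx (tors W p) (B ⊔ cnj h B) := by
      rw [fx_sup]
      refine ⟨hzB, ?_⟩
      simpa using (smul_mem_fx_cnj h).2 h1
    rw [htop] at h2
    exact congrArg Subtype.val (h2 g1 (mem_top g1))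
  -- all commutators have order `p`
  have hWeq : tors W p ⊔ fx W B = ⊤ := by
    refine AddSubgroup.eq_top_of_le_card _ ?_
    refine Nat.le_of_mul_le_mul_right ?_
      (Nat.card_pos : 0 < Nat.card ↥(tors W p ⊓ fx W B))
    rw [card_sup_mul_inf]
    have hVeq : Nat.card (tors W p) = Nat.card B * Nat.card ↥(tors W p ⊓ fx W B) := by
      rw [← card_fx_tors, ← hC, hcardC, hran, hcardV, hBF]; ring
    calc Nat.card W * Nat.card ↥(tors W p ⊓ fx W B)
        ≤ meas W B * Nat.card ↥(tors W p ⊓ fx W B) := Nat.mul_le_mul_right _ hcard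
      _ = _ := by rw [hVeq, meas]; ring
  let G : Subgroup L :=
    { carrier := {g | ∀ w : W, dev g w ∈ tors W p}
      one_mem' := fun w => by rw [dev, one_smul, sub_self]; exact zero_mem _
      mul_mem' := fun {a b} ha hb w => by
        rw [dev_mul]; exact add_mem (smul_mem_tors a (hb w)) (ha w)
      inv_mem' := fun {a} ha w => by
        have : dev a⁻¹ w = -(a⁻¹ • dev a w) := by simp [dev, smul_sub]
        rw [this]; exact neg_mem (smul_mem_tors _ (ha w)) }
  have hBG : B ≤ G := fun b hb w => by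
    obtain ⟨v, hv, y, hy, rfl⟩ := AddSubgroup.mem_sup.1 (hWeq.symm ▸ AddSubgroup.mem_top w)
    rw [dev_add, dev_eq_zero hb hy, add_zero, dev]
    exact sub_mem (smul_mem_tors b hv) hv
  have hall : ∀ g w, dev (g : L) (w : W) ∈ tors W p := by
    have hxB : cnj x B ≤ G := by
      rintro _ ⟨b, hb, rfl⟩ w
      have h1 := smul_mem_tors x (hBG hb (x⁻¹ • w))
      simpa [dev, mul_smul, smul_sub] using h1
    have htop : (⊤ : Subgroup L) ≤ G := hgen x hx ▸ sup_le hBG hxB
    exact fun g => htop (mem_top g)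
  have hpowM : ∀ i : ℕ, ∀ t ∈ T, h ^ i • t ∈ T := fun i => (hM _).1 (M.pow_mem hhM i)
  -- the vectors of the commutator
  set D := AddSubgroup.closure {d | ∃ i : ℕ, ∃ t ∈ T, d = h ^ i • t - t} with hD
  have hDT : D ≤ T ⊓ tors W p := by
    rw [hD, AddSubgroup.closure_le]
    rintro _ ⟨i, t, ht, rfl⟩
    exact AddSubgroup.mem_inf.2 ⟨T.sub_mem (hpowM i t ht) ht, hall _ _⟩
  let Nh : W →+ W := ∑ i ∈ Finset.range m, DistribSMul.toAddMonoidHom W (h ^ i)
  have hNh : ∀ w, Nh w = ∑ i ∈ Finset.range m, h ^ i • w := fun w => by simp [Nh]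
  have hN0 : ∀ w : W, Nh (h • w) = Nh w := by
    intro w
    rw [← sub_eq_zero, hNh, hNh, ← Finset.sum_sub_distrib]
    simp_rw [← mul_smul, ← pow_succ]
    rw [Finset.sum_range_sub (fun i => h ^ i • w) m, hh1, pow_zero, sub_self]
  have hDN : D ≤ Nh.ker := by
    rw [hD, AddSubgroup.closure_le]
    rintro _ ⟨i, t, -, rfl⟩
    show Nh (h ^ i • t - t) = 0
    induction i with
    | zero => simp
    | succ i ih =>
      rw [map_sub, sub_eq_zero] at ih ⊢
      rw [pow_succ', mul_smul, hN0, ih]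
  have hfree : ∀ d ∈ D, h • d = d → d = 0 := by
    intro d hd hfx
    have hfi : ∀ i : ℕ, h ^ i • d = d := by
      intro i
      induction i with
      | zero => simp
      | succ i ih => rw [pow_succ', mul_smul, ih, hfx]
    have h1 : Nh d = 0 := hDN hd
    rw [hNh, Finset.sum_congr rfl fun i _ => hfi i, Finset.sum_const, Finset.card_range] at h1
    exact eq_zero_of_coprime_nsmul (k := 1) (by rw [pow_one]; exact (hDT hd).2) h1 hcop
  have hDh : ∀ i : ℕ, ∀ d ∈ D, h ^ i • d ∈ D := by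
    intro i
    have : D ≤ D.comap (DistribSMul.toAddMonoidHom W (h ^ i)) := by
      rw [hD, AddSubgroup.closure_le]
      rintro _ ⟨k, t, ht, rfl⟩
      show h ^ i • (h ^ k • t - t) ∈ D
      rw [show h ^ i • (h ^ k • t - t) = (h ^ (i + k) • t - t) - (h ^ i • t - t) by
        rw [smul_sub, ← mul_smul, ← pow_add]; abel]
      exact sub_mem (AddSubgroup.subset_closure ⟨_, t, ht, rfl⟩)
        (AddSubgroup.subset_closure ⟨_, t, ht, rfl⟩)
    exact fun d hd => this hd
  have hcoord : ∀ d (hd : d ∈ D), ∃ c : F, π ⟨d, (hDT hd).2⟩ = c • u ∧ (c = 0 → d = 0) := by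
    intro d hd
    obtain ⟨c, hc⟩ := hline ⟨d, (hDT hd).2⟩ fun b hb => Subtype.ext (hfix b (hBS hb) d (hDT hd).1)
    refine ⟨c, hc, fun h0 => hfree d hd ?_⟩
    rw [h0, zero_smul] at hc
    exact congrArg Subtype.val ((hπ0 _).1 hc h (mem_top h))
  refine ⟨h, m, hhM, hh1, hcop, ⟨t', ht'T, fun h' => hzmove ?_⟩, fun a b ha hb ha0 hb0' => ?_⟩
  · refine Subtype.ext (sub_eq_zero.1 ?_)
    show h • z0 - z0 = 0
    rw [hz0dev h, h', sub_self, smul_zero]
  · obtain ⟨ca, hca, hca0⟩ := hcoord a ha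
    obtain ⟨cb, hcb, hcb0⟩ := hcoord b hb
    have hca1 : ca ≠ 0 := fun h0 => ha0 (hca0 h0)
    have hcb1 : cb ≠ 0 := fun h0 => hb0' (hcb0 h0)
    obtain ⟨i, hi⟩ : ∃ i : ℕ, lam ^ i = Units.mk0 (cb / ca) (div_ne_zero hcb1 hca1) :=
      (mem_powers_iff_mem_zpowers.2 (hlam _))
    refine ⟨i, sub_eq_zero.1 ?_⟩
    have hmem : h ^ i • a - b ∈ D := sub_mem (hDh i a ha) hb
    obtain ⟨c, hc, hc0⟩ := hcoord _ hmem
    refine hc0 ?_
    have h2 : π ⟨h ^ i • a - b, (hDT hmem).2⟩ =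
        π (h ^ i • (⟨a, (hDT ha).2⟩ : tors W p)) - π ⟨b, (hDT hb).2⟩ := by
      rw [← map_sub]; rfl
    have h3 : (lam : F) ^ i * ca = cb := by
      have := congrArg Units.val hi
      rw [Units.val_pow_eq_pow_val, Units.val_mk0] at this
      rw [this, div_mul_cancel₀ _ hca1]
    rw [hsmul i _ _ hca, hcb, h3, sub_self, hc] at h2
    exact (smul_eq_zero.1 h2).resolve_right hu0

end Cfsg.Agent.Lib.WeakClosure87
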