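import Mathlib
import Cfsg.Agent.Lib.SL2Recog.StrongEmbedded
import Cfsg.Agent.Lib.WeakClosure87.Torus87

/-!
An offender in a group acting faithfully on an abelian `p`-group gives a torus moving a subgroup of
vectors fixed by a Sylow subgroup, when the stabiliser of that subgroup is the only maximal
subgroup over the Sylow subgroup.
-/

set_option autoImplicit false

namespace Cfsg.Agent.Lib.WeakClosure87

open Subgroup
open Cfsg.Agent.Lib.SL2Recog
open scoped Pointwise

variable {H W : Type*} [Group H] [AddCommGroup W] [DistribMulAction H W] {p : ℕ}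
variable [Finite H] [Finite W] [hp : Fact p.Prime]

theorem exists_exponent (hWp : ∀ w : W, ∃ k : ℕ, p ^ k • w = 0) : ∃ l : ℕ, ∀ w : W, p ^ l • w = 0 := by
  classical
  letI : Fintype W := Fintype.ofFinite W
  choose k hk using hWp
  refine ⟨Finset.univ.sup k, fun w => ?_⟩
  obtain ⟨c, hc⟩ := pow_dvd_pow p (Finset.le_sup (f := k) (Finset.mem_univ w))
  rw [hc, mul_comm, mul_smul, hk, smul_zero]

/-- A `p`-element acts unipotently. -/
theorem exists_iterate_dev (hWp : ∀ w : W, ∃ k : ℕ, p ^ k • w = 0) (P : Subgroup H)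
    (hP : IsPGroup p P) : ∃ N : ℕ, ∀ a ∈ P, ∀ v : W, (dev a)^[N] v = 0 := by
  obtain ⟨l, hl⟩ := exists_exponent hWp
  obtain ⟨k, hk⟩ := IsPGroup.iff_card.1 hP
  refine ⟨p ^ k * l, fun a ha v => ?_⟩
  have hak : a ^ p ^ k = 1 := by
    have := pow_card_eq_one' (x := (⟨a, ha⟩ : P))
    rw [hk] at this
    exact congrArg Subtype.val this
  set e : AddMonoid.End W := DistribSMul.toAddMonoidHom W a with he
  have h3 : ∀ (k : ℕ) (w : W), ((e ^ k : AddMonoid.End W) w) = a ^ k • w := by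
    intro k
    induction k with
    | zero => intro w; simp
    | succ k ih => intro w; rw [pow_succ, pow_succ, mul_smul]; exact ih _
  have hek : e ^ p ^ k = 1 := AddMonoidHom.ext fun w => by
    refine (h3 _ w).trans ?_
    rw [hak, one_smul]
    rfl
  obtain ⟨r, hr⟩ := (Commute.one_right (e - 1)).exists_add_pow_prime_pow_eq hp.out k
  rw [sub_add_cancel, hek, one_pow, mul_one] at hr
  have hfac : (e - 1) ^ p ^ k = (p : AddMonoid.End W) * (-((e - 1) * r)) := by
    rw [mul_neg, ← mul_assoc, eq_neg_iff_add_eq_zero]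
    calc (e - 1) ^ p ^ k + (p : AddMonoid.End W) * (e - 1) * r
        = (e - 1) ^ p ^ k + 1 + (p : AddMonoid.End W) * (e - 1) * r - 1 := by abel
      _ = 0 := by rw [← hr, sub_self]
  have hpl : ((p : AddMonoid.End W)) ^ l = 0 := AddMonoidHom.ext fun w => by
    show ((p : AddMonoid.End W) ^ l) w = 0
    rw [← Nat.cast_pow, AddMonoid.End.natCast_apply, hl]
  have h0 : (e - 1) ^ (p ^ k * l) = 0 := by
    rw [pow_mul, hfac, (Nat.cast_commute p _).mul_pow, hpl, zero_mul]
  have h2 : ∀ (n : ℕ) (w : W), ((e - 1) ^ n : AddMonoid.End W) w = (dev a)^[n] w := by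
    intro n
    induction n with
    | zero => intro w; rfl
    | succ n ih => intro w; rw [pow_succ, Function.iterate_succ_apply]; exact ih _
  rw [← h2, h0]
  rfl

/-- A member with larger measure than all its proper non-trivial subgroups, and at least that of
the trivial subgroup, acts quadratically. -/
theorem quadratic_nilpotent [FaithfulSMul H W] {F : Subgroup H} {N : ℕ}
    (hc : ∀ a ∈ F, ∀ b ∈ F, a * b = b * a) (hnil : ∀ a ∈ F, ∀ v : W, (dev a)^[N] v = 0)
    (hbot : Nat.card W ≤ meas W F)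
    (hlt : ∀ B : Subgroup H, B ≤ F → B ≠ ⊥ → B ≠ F → meas W B < meas W F)
    {a : H} (ha : a ∈ F) (u : W) : dev a u ∈ fx W F := by
  classical
  set C := fx W F with hC
  set U0 := C ⊔ AddSubgroup.closure {x : W | ∃ c ∈ F, x = dev c u} with hU0
  let X : Subgroup H :=
    { carrier := {g | g ∈ F ∧ dev g u ∈ C}
      one_mem' := ⟨F.one_mem, by simp [dev]⟩
      mul_mem' := fun {g h} hg hh => ⟨F.mul_mem hg.1 hh.1, by
        rw [dev_mul, hh.2 g hg.1]; exact C.add_mem hh.2 hg.2⟩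
      inv_mem' := fun {g} hg => by
        refine ⟨F.inv_mem hg.1, ?_⟩
        have h1 : dev g⁻¹ u = -(g⁻¹ • dev g u) := by simp [dev, smul_sub]
        rw [h1, hg.2 _ (F.inv_mem hg.1)]
        exact C.neg_mem hg.2 }
  have hXmem : ∀ g : H, g ∈ X ↔ g ∈ F ∧ dev g u ∈ C := fun g => Iff.rfl
  have hUfix : U0 ≤ fx W X := by
    refine sup_le (fx_anti fun g hg => hg.1) ?_
    rw [AddSubgroup.closure_le]
    rintro _ ⟨c, hc', rfl⟩ g hg
    have h1 : dev g (dev c u) = 0 := by rw [dev_comm (hc g hg.1 c hc'), dev_eq_zero hc' hg.2]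
    exact sub_eq_zero.1 h1
  let φ : F ⧸ X.subgroupOf F → ↥(U0.map (QuotientAddGroup.mk' C)) := fun q =>
    ⟨QuotientAddGroup.mk (dev ((q.out : F) : H) u), dev ((q.out : F) : H) u,
      AddSubgroup.mem_sup_right (AddSubgroup.subset_closure ⟨_, (q.out : F).2, rfl⟩), rfl⟩
  have hφ : Function.Injective φ := by
    intro q₁ q₂ h
    rw [← QuotientGroup.out_eq' q₁, ← QuotientGroup.out_eq' q₂, QuotientGroup.eq, mem_subgroupOf]
    have h' : (QuotientAddGroup.mk (dev ((q₁.out : F) : H) u) : W ⧸ C) =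
        QuotientAddGroup.mk (dev ((q₂.out : F) : H) u) := congrArg Subtype.val h
    rw [QuotientAddGroup.eq] at h'
    set x := ((q₁.out : F) : H) with hx
    set y := ((q₂.out : F) : H) with hy
    have hxF : x ∈ F := (q₁.out : F).2
    show x⁻¹ * y ∈ X
    rw [hXmem]
    refine ⟨F.mul_mem (F.inv_mem hxF) (q₂.out : F).2, ?_⟩
    have hd : dev (x⁻¹ * y) u = x⁻¹ • (-dev x u + dev y u) := by
      simp only [dev, mul_smul, smul_add, smul_neg, smul_sub, inv_smul_smul]
      abel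
    rw [hd, h' _ (F.inv_mem hxF)]
    exact h'
  have hcardq : (X.subgroupOf F).index ≤ Nat.card ↥(U0.map (QuotientAddGroup.mk' C)) :=
    Nat.card_le_card_of_injective φ hφ
  have hXF : X ≤ F := fun g hg => hg.1
  have hcardF : Nat.card F = Nat.card X * (X.subgroupOf F).index := by
    rw [← card_mul_index (X.subgroupOf F), Nat.card_congr (subgroupOfEquivOfLe hXF).toEquiv]
  have hcardU : Nat.card ↥(U0.map (QuotientAddGroup.mk' C)) * Nat.card C ≤ Nat.card U0 := by
    let g := (QuotientAddGroup.mk' C).comp U0.subtype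
    have hr : g.range = U0.map (QuotientAddGroup.mk' C) := by
      rw [AddMonoidHom.range_eq_map, ← AddSubgroup.map_map, ← AddMonoidHom.range_eq_map,
        AddSubgroup.range_subtype]
    rw [← hr, AddSubgroup.card_eq_card_quotient_mul_card_addSubgroup g.ker,
      Nat.card_congr (QuotientAddGroup.quotientKerEquivRange g).toEquiv]
    refine Nat.mul_le_mul_left _ (Nat.card_le_card_of_injective
      (fun c => (⟨⟨(c : W), AddSubgroup.mem_sup_left c.2⟩, by
        rw [AddMonoidHom.mem_ker]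
        exact (QuotientAddGroup.eq_zero_iff _).2 c.2⟩ : g.ker)) ?_)
    intro c d h
    exact Subtype.ext (congrArg (fun w : g.ker => ((w : U0) : W)) h)
  have hmain : meas W F ≤ Nat.card X * Nat.card U0 := by
    rw [meas, hcardF, mul_assoc]
    exact Nat.mul_le_mul_left _ ((Nat.mul_le_mul_right _ hcardq).trans hcardU)
  by_cases hXbot : X = ⊥
  · rw [hXbot, card_bot, one_mul] at hmain
    have htop : U0 = ⊤ := AddSubgroup.eq_top_of_le_card _ (hbot.trans hmain)
    set U := AddSubgroup.closure {x : W | ∃ c ∈ F, ∃ v, x = dev c v} with hU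
    let f : F → W →+ W := fun c => AddMonoidHom.mk' (fun v => dev (c : H) v) fun v w => dev_add _ v w
    have : Fintype F := Fintype.ofFinite F
    have hmono : AddSubgroup.closure {x : W | ∃ c ∈ F, x = dev c u} ≤ U := by
      rw [hU]
      exact AddSubgroup.closure_mono fun x ⟨c, hc', hx⟩ => ⟨c, hc', u, hx⟩
    have hle : U0 ≤ C ⊔ U := sup_le_sup_left hmono _
    have hkey : U ≤ ⨆ i ∈ (Finset.univ : Finset F), U.map (f i) := by
      rw [hU, AddSubgroup.closure_le]
      rintro _ ⟨c, hc', v, rfl⟩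
      obtain ⟨x, hx, d, hd, rfl⟩ := AddSubgroup.mem_sup.1 (hle (htop ▸ AddSubgroup.mem_top v))
      rw [dev_add, dev_eq_zero hc' hx, zero_add]
      exact AddSubgroup.mem_iSup_of_mem (⟨c, hc'⟩ : F)
        (AddSubgroup.mem_iSup_of_mem (Finset.mem_univ _) ⟨d, hd, rfl⟩)
    have hUbot : U = ⊥ := eq_bot_of_iSup_map f N (fun i m => hnil _ i.2 m)
      (fun i j m => dev_comm (hc _ i.2 _ j.2) m) Finset.univ U hkey
    have h0 : dev a u = 0 := by
      have h1 : dev a u ∈ U := AddSubgroup.subset_closure ⟨a, ha, u, rfl⟩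
      rwa [hUbot, AddSubgroup.mem_bot] at h1
    rw [h0]
    exact C.zero_mem
  · by_cases hXeq : X = F
    · exact ((hXmem a).1 (hXeq.symm ▸ ha)).2
    · exact absurd ((hmain.trans (Nat.mul_le_mul_left _ (AddSubgroup.card_le_of_le hUfix))))
        (hlt X hXF hXbot hXeq).not_ge

/-- Without normal `p`-subgroups the action on the vectors killed by `p` is faithful. -/
theorem faithful_tors [FaithfulSMul H W] (hWp : ∀ w : W, ∃ k : ℕ, p ^ k • w = 0)
    (hcore : ∀ N : Subgroup H, N.Normal → IsPGroup p N → N = ⊥) : FaithfulSMul H (tors W p) := by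
  let K : Subgroup H :=
    { carrier := {g | ∀ v : tors W p, g • v = v}
      one_mem' := fun v => one_smul H v
      mul_mem' := fun {a b} ha hb v => by rw [mul_smul, hb, ha]
      inv_mem' := fun {a} ha v => by rw [inv_smul_eq_iff, ha] }
  have hKn : K.Normal := ⟨fun g hg x v => by
    rw [mul_smul, mul_smul, hg, smul_inv_smul]⟩
  have hKp : IsPGroup p K := by
    rintro ⟨g, hg⟩
    obtain ⟨a, b, hb, hab⟩ := Nat.exists_eq_pow_mul_and_not_dvd (orderOf_pos g).ne' p hp.out.ne_one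
    refine ⟨a, Subtype.ext ?_⟩
    show g ^ p ^ a = 1
    refine eq_of_smul_eq_smul fun w : W => ?_
    rw [one_smul]
    have hhK : g ^ p ^ a ∈ K := K.pow_mem hg _
    have hhb : (g ^ p ^ a) ^ b = 1 := by rw [← pow_mul, ← hab, pow_orderOf_eq_one]
    have hbp : b.Coprime p := ((Nat.Prime.coprime_iff_not_dvd hp.out).2 hb).symm
    set h := g ^ p ^ a
    suffices hind : ∀ (k : ℕ) (w : W), p ^ k • w = 0 → h • w = w by
      obtain ⟨k, hk⟩ := hWp w
      exact hind k w hk
    intro k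
    induction k with
    | zero => intro w hw; rw [pow_zero, one_smul] at hw; rw [hw, smul_zero]
    | succ k ih =>
      intro w hw
      have h1 : h • (p • w) = p • w := ih _ (by rwa [← mul_smul, ← pow_succ])
      have hd : p • (h • w - w) = 0 := by rw [smul_sub, ← smul_comm, h1, sub_self]
      have hfd : h • (h • w - w) = h • w - w := congrArg Subtype.val (hhK ⟨_, hd⟩)
      have hsum : ∀ i : ℕ, h ^ i • w = w + i • (h • w - w) := by
        intro i
        induction i with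
        | zero => simp
        | succ i ihi =>
          rw [pow_succ', mul_smul, ihi, smul_add, smul_comm h i, hfd, succ_nsmul]
          abel
      have hb0 := hsum b
      rw [hhb, one_smul, left_eq_add] at hb0
      exact sub_eq_zero.1 (eq_zero_of_coprime_nsmul (k := 1) (by rwa [pow_one]) hb0 hbp)
  have hK := hcore K hKn hKp
  refine ⟨fun {x y} hxy => ?_⟩
  have : y⁻¹ * x ∈ K := fun v => by rw [mul_smul, hxy v, inv_smul_smul]
  rw [hK, mem_bot, inv_mul_eq_one] at this
  exact this.symm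

/-- The elementary minimal offenders. -/
def IsMinOff (p : ℕ) (W : Type*) [AddCommGroup W] [DistribMulAction H W] (B : Subgroup H) : Prop :=
  B ≠ ⊥ ∧ (∀ a ∈ B, a ^ p = 1) ∧ (∀ a ∈ B, ∀ b ∈ B, a * b = b * a) ∧
    Nat.card W ≤ meas W B ∧
    ∀ B0 : Subgroup H, B0 ≤ B → B0 ≠ ⊥ → B0 ≠ B → meas W B0 < meas W B

theorem isMinOff_cnj {B : Subgroup H} (g : H) (hB : IsMinOff p W B) : IsMinOff p W (cnj g B) := by
  obtain ⟨h0, h1, h2, h3, h4⟩ := hB
  refine ⟨fun h => h0 ?_, ?_, ?_, by rwa [meas_cnj], fun B0 hB0 hne0 hneB => ?_⟩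
  · rwa [Subgroup.map_eq_bot_iff_of_injective _ (MulAut.conj g).injective] at h
  · rintro _ ⟨a, ha, rfl⟩
    rw [← map_pow, h1 a ha, map_one]
  · rintro _ ⟨a, ha, rfl⟩ _ ⟨b, hb, rfl⟩
    rw [← map_mul, ← map_mul, h2 a ha b hb]
  · have hback : cnj g (cnj g⁻¹ B0) = B0 := by rw [cnj_cnj, mul_inv_cancel, cnj_one]
    have hle : cnj g⁻¹ B0 ≤ B := by
      have := cnj_mono g⁻¹ hB0
      rwa [cnj_cnj, inv_mul_cancel, cnj_one] at this
    have := h4 _ hle (fun h => hne0 (by rw [← hback, h, cnj, Subgroup.map_bot]))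
      fun h => hneB (by rw [← hback, h])
    rw [meas_cnj] at this
    rwa [meas_cnj]

/-- The subgroup generated by the minimal offenders in `Q`. -/
def offClosure (p : ℕ) (W : Type*) [AddCommGroup W] [DistribMulAction H W] (Q : Subgroup H) :
    Subgroup H := sSup {B | IsMinOff p W B ∧ B ≤ Q}

theorem offClosure_le (Q : Subgroup H) : offClosure p W Q ≤ Q := sSup_le fun _ hB => hB.2

theorem le_offClosure {Q B : Subgroup H} (hB : IsMinOff p W B) (h : B ≤ Q) :
    B ≤ offClosure p W Q := le_sSup ⟨hB, h⟩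

theorem offClosure_mono {Q Q' : Subgroup H} (h : Q ≤ Q') :
    offClosure p W Q ≤ offClosure p W Q' :=
  sSup_le_sSup fun _ hB => ⟨hB.1, hB.2.trans h⟩

theorem offClosure_idem (Q : Subgroup H) :
    offClosure p W (offClosure p W Q) = offClosure p W Q :=
  le_antisymm (offClosure_le _) (sSup_le fun _ hB => le_offClosure hB.1 (le_offClosure hB.1 hB.2))

theorem offClosure_bot : offClosure p W (⊥ : Subgroup H) = ⊥ := le_bot_iff.1 (offClosure_le _)

theorem cnj_offClosure_le (g : H) (Q : Subgroup H) :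
    cnj g (offClosure p W Q) ≤ offClosure p W (cnj g Q) := by
  rw [cnj, Subgroup.map_le_iff_le_comap]
  exact sSup_le fun B hB =>
    Subgroup.map_le_iff_le_comap.1 (le_offClosure (isMinOff_cnj g hB.1) (cnj_mono g hB.2))

theorem cnj_offClosure (g : H) (Q : Subgroup H) :
    cnj g (offClosure p W Q) = offClosure p W (cnj g Q) := by
  refine le_antisymm (cnj_offClosure_le g Q) ?_
  have h := cnj_mono g (cnj_offClosure_le (p := p) (W := W) g⁻¹ (cnj g Q))
  simpa [cnj_cnj, cnj_one] using h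

theorem mem_normalizer_iff_cnj_eq {g : H} {Q : Subgroup H} :
    g ∈ normalizer (Q : Set H) ↔ cnj g Q = Q := by
  rw [mem_normalizer_iff]
  constructor
  · intro h
    ext y
    rw [mem_cnj]
    exact ⟨fun hy => by simpa [mul_assoc] using (h _).1 hy,
      fun hy => (h _).2 (by simpa [mul_assoc] using hy)⟩
  · intro h x
    conv_rhs => rw [← h, mem_cnj]
    simp [mul_assoc]

theorem normalizer_le_offClosure (Q : Subgroup H) :
    normalizer (Q : Set H) ≤ normalizer (offClosure p W Q : Set H) := fun g hg => by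
  rw [mem_normalizer_iff_cnj_eq, cnj_offClosure, mem_normalizer_iff_cnj_eq.1 hg]

/-- Normalisers grow. -/
theorem exists_gt_normalizing {Q R : Subgroup H} (hR : IsPGroup p R) (hQR : Q < R) :
    ∃ Q' : Subgroup H, Q < Q' ∧ Q' ≤ R ∧ Q' ≤ normalizer (Q : Set H) := by
  haveI := hR.isNilpotent
  have hlt : Q.subgroupOf R < ⊤ := lt_top_iff_ne_top.2 fun h => by
    rw [subgroupOf_eq_top] at h
    exact hQR.ne (le_antisymm hQR.le h)
  obtain ⟨x, hx, hxn⟩ := SetLike.exists_of_lt
    ((Group.normalizerCondition_of_isNilpotent (G := R)) _ hlt)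
  have hxN : (x : H) ∈ normalizer (Q : Set H) := by
    rw [mem_normalizer_iff]
    intro y
    constructor
    · intro hy
      exact ((mem_normalizer_iff.1 hx) ⟨y, hQR.le hy⟩).1 hy
    · intro hy
      have h1 : y ∈ R := by
        simpa [mul_assoc] using R.mul_mem (R.mul_mem (R.inv_mem x.2) (hQR.le hy)) x.2
      exact ((mem_normalizer_iff.1 hx) ⟨y, h1⟩).2 hy
  refine ⟨Q ⊔ zpowers (x : H), lt_of_le_of_ne le_sup_left fun h => hxn ?_,
    sup_le hQR.le (zpowers_le.2 x.2), sup_le le_normalizer (zpowers_le.2 hxN)⟩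
  exact mem_subgroupOf.2 (h.symm ▸ mem_sup_right (mem_zpowers (x : H)))

/-- Existence of a minimal offender inside an abelian one. -/
theorem exists_isMinOff [FaithfulSMul H W] (hfV : FaithfulSMul H (tors W p))
    (hWp : ∀ w : W, ∃ k : ℕ, p ^ k • w = 0) {P A : Subgroup H} (hP : IsPGroup p P) (hAP : A ≤ P)
    (hA : ∀ a ∈ A, ∀ b ∈ A, a * b = b * a) (hA1 : A ≠ ⊥) (hAW : Nat.card W ≤ meas W A) :
    ∃ B, B ≤ A ∧ IsMinOff p W B := by
  classical
  obtain ⟨B1, hB1, hB1max⟩ := Set.exists_max_image {B : Subgroup H | B ≤ A ∧ B ≠ ⊥}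
    (fun B => meas W B) (Set.toFinite _) ⟨A, le_rfl, hA1⟩
  obtain ⟨B, hB, hBmin⟩ := Set.exists_min_image
    {B : Subgroup H | (B ≤ A ∧ B ≠ ⊥) ∧ meas W B = meas W B1}
    (fun B => Nat.card B) (Set.toFinite _) ⟨B1, hB1, rfl⟩
  obtain ⟨⟨hBA, hB0⟩, hBm⟩ := hB
  have hcard : Nat.card W ≤ meas W B := hBm ▸ hAW.trans (hB1max A ⟨le_rfl, hA1⟩)
  have hcomm : ∀ a ∈ B, ∀ b ∈ B, a * b = b * a := fun a ha b hb => hA a (hBA ha) b (hBA hb)
  have hstrict : ∀ B0 : Subgroup H, B0 ≤ B → B0 ≠ ⊥ → B0 ≠ B → meas W B0 < meas W B := by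
    intro B0 h1 h2 h3
    rcases lt_or_eq_of_le (hB1max B0 ⟨h1.trans hBA, h2⟩) with h4 | h4
    · exact hBm ▸ h4
    · exact absurd (Subgroup.eq_of_le_of_card_ge h1 (hBmin B0 ⟨⟨h1.trans hBA, h2⟩, h4⟩)) h3
  obtain ⟨N, hN⟩ := exists_iterate_dev hWp P hP
  refine ⟨B, hBA, hB0, fun a ha => ?_, hcomm, hcard, hstrict⟩
  refine eq_of_smul_eq_smul fun v : tors W p => Subtype.ext ?_
  rw [coe_smul_tors, one_smul]
  have hd := quadratic_nilpotent hcomm (fun b hb => hN b (hAP (hBA hb))) hcard hstrict ha (v : W)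
  have hsum : ∀ i : ℕ, a ^ i • (v : W) = v + i • dev a (v : W) := by
    intro i
    induction i with
    | zero => simp
    | succ i ih =>
      rw [pow_succ', mul_smul, ih, smul_add, smul_comm a i, hd a ha, succ_nsmul, smul_eq a]
      abel
  rw [hsum, dev, smul_sub, ← smul_comm, show p • (v : W) = 0 from v.2, smul_zero, sub_zero,
    add_zero]

/-- **Torus from an offender.** -/
theorem exists_torus_of_offender [FaithfulSMul H W] (hp2 : p ≠ 2)
    (hWp : ∀ w : W, ∃ k : ℕ, p ^ k • w = 0) (P : Sylow p H) (T : AddSubgroup W) (M : Subgroup H)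
    (hPM : (P : Subgroup H) ≤ M) (hM : ∀ g, g ∈ M ↔ ∀ t ∈ T, g • t ∈ T) (hMne : M ≠ ⊤)
    (hfix : ∀ s ∈ (P : Subgroup H), ∀ t ∈ T, s • t = t)
    (hmax : ∀ K : Subgroup H, (P : Subgroup H) ≤ K → K = ⊤ ∨ K ≤ M)
    (hcore : ∀ N : Subgroup H, N.Normal → IsPGroup p N → N = ⊥) {A : Subgroup H}
    (hAP : A ≤ P) (hA : ∀ a ∈ A, ∀ b ∈ A, a * b = b * a) (hA1 : A ≠ ⊥)
    (hAW : Nat.card W ≤ meas W A) :
    ∃ (h : H) (m : ℕ), h ∈ M ∧ h ^ m = 1 ∧ m.Coprime p ∧ (∃ t ∈ T, h • t ≠ t) ∧
      ∀ a b : W, a ∈ AddSubgroup.closure {d | ∃ i : ℕ, ∃ t ∈ T, d = h ^ i • t - t} →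
        b ∈ AddSubgroup.closure {d | ∃ i : ℕ, ∃ t ∈ T, d = h ^ i • t - t} →
        a ≠ 0 → b ≠ 0 → ∃ i : ℕ, h ^ i • a = b := by
  classical
  have hfV := faithful_tors hWp hcore
  obtain ⟨B0, hB0A, hB0⟩ := exists_isMinOff hfV hWp P.2 hAP hA hA1 hAW
  -- Sylow subgroups of `M`
  have hsylM : ∀ Q : Subgroup H, IsPGroup p Q → Q ≤ M →
      ∃ m ∈ M, Q ≤ cnj m (P : Subgroup H) := by
    intro Q hQ hQM
    obtain ⟨R, hR⟩ := (hQ.comap_of_injective M.subtype M.subtype_injective).exists_le_sylow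
    obtain ⟨m, hm⟩ := MulAction.exists_smul_eq M (P.subtype hPM) R
    refine ⟨m, m.2, fun q hq => ?_⟩
    have h1 : (⟨q, hQM hq⟩ : M) ∈ (R : Subgroup M) := hR hq
    rw [← hm, coe_smul_sylow, mem_cnj, Sylow.coe_subtype, mem_subgroupOf] at h1
    rw [mem_cnj]
    simpa using h1
  -- the offenders of the Sylow subgroup
  set RP := offClosure p W (P : Subgroup H) with hRP
  have hNRP : normalizer (RP : Set H) ≤ M := by
    refine (hmax _ (le_normalizer.trans (normalizer_le_offClosure _))).resolve_left fun h => ?_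
    have hn : RP.Normal := normalizer_eq_top_iff.1 h
    have := hcore RP hn (P.2.to_le (offClosure_le _))
    exact hB0.1 (le_bot_iff.1 (this ▸ le_offClosure hB0 (hB0A.trans hAP)))
  obtain ⟨P0, ⟨hP0p, hP0M, hP0g, hP0N⟩, hP0max⟩ := Set.exists_max_image
    {Q : Subgroup H | IsPGroup p Q ∧ Q ≤ M ∧ offClosure p W Q = Q ∧ ¬ normalizer (Q : Set H) ≤ M}
    (fun Q => Nat.card Q) (Set.toFinite _)
    ⟨⊥, IsPGroup.of_bot, bot_le, offClosure_bot, fun h => hMne (eq_top_iff.2 (le_trans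
      (normalizer_eq_top_iff.2 inferInstance).ge h))⟩
  obtain ⟨S1, ⟨hS1p, hS1le, hP0S1⟩, hS1max⟩ := Set.exists_max_image
    {Q : Subgroup H | IsPGroup p Q ∧ Q ≤ M ⊓ normalizer (P0 : Set H) ∧ P0 ≤ Q}
    (fun Q => Nat.card Q) (Set.toFinite _)
    ⟨P0, hP0p, le_inf hP0M le_normalizer, le_rfl⟩
  obtain ⟨B, hB, hBS1, hBP0⟩ : ∃ B, IsMinOff p W B ∧ B ≤ S1 ∧ ¬ B ≤ P0 := by
    by_contra! hno
    have hR1 : offClosure p W S1 = P0 :=
      le_antisymm (sSup_le fun B hB => hno B hB.1 hB.2) (hP0g ▸ offClosure_mono (p := p) (W := W) hP0S1)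
    obtain ⟨m, hm, hS1m⟩ := hsylM S1 hS1p (hS1le.trans inf_le_left)
    have hconjp : IsPGroup p (cnj m (P : Subgroup H)) := P.2.map _
    have hconjM : cnj m (P : Subgroup H) ≤ M := fun y hy => by
      have := M.mul_mem (M.mul_mem hm (hPM (mem_cnj.1 hy))) (M.inv_mem hm)
      simpa [mul_assoc] using this
    rcases hS1m.lt_or_eq with hlt | heq
    · obtain ⟨Q', hQ', hQ'le, hQ'N⟩ := exists_gt_normalizing (p := p) hconjp hlt
      have h1 : Q' ≤ normalizer (P0 : Set H) := hR1 ▸ hQ'N.trans (normalizer_le_offClosure S1)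
      have h2 := hS1max Q' ⟨hconjp.to_le hQ'le, le_inf (hQ'le.trans hconjM) h1,
        hP0S1.trans hQ'.le⟩
      exact hQ'.ne (Subgroup.eq_of_le_of_card_ge hQ'.le h2)
    · refine hP0N fun g hg => ?_
      have h1 : cnj m RP = P0 := by rw [hRP, cnj_offClosure, ← heq, hR1]
      have h2 : m⁻¹ * g * m ∈ normalizer (RP : Set H) := by
        rw [mem_normalizer_iff_cnj_eq, ← cnj_cnj, h1, ← cnj_cnj, mem_normalizer_iff_cnj_eq.1 hg,
          ← h1, cnj_cnj, inv_mul_cancel, cnj_one]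
      have h3 := M.mul_mem (M.mul_mem hm (hNRP h2)) (M.inv_mem hm)
      simpa [mul_assoc] using h3
  obtain ⟨L, ⟨hBL, hLN, hLM⟩, hLmin⟩ := Set.exists_min_image
    {K : Subgroup H | B ≤ K ∧ K ≤ normalizer (P0 : Set H) ∧ ¬ K ≤ M}
    (fun K => Nat.card K) (Set.toFinite _)
    ⟨_, (hBS1.trans hS1le).trans inf_le_right, le_rfl, hP0N⟩
  have hBM : B ≤ M := (hBS1.trans hS1le).trans inf_le_left
  set M' := M.subgroupOf L with hM'
  set B' := B.subgroupOf L with hB'
  have hM'ne : M' ≠ ⊤ := fun h => hLM (subgroupOf_eq_top.1 h)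
  have hmin' : ∀ K : Subgroup L, B' ≤ K → K ≠ ⊤ → K ≤ M' := by
    intro K hK hKtop k hk
    by_contra hkM
    refine hKtop ?_
    have h1 : B ≤ K.map L.subtype := fun b hb => ⟨⟨b, hBL hb⟩, hK hb, rfl⟩
    have h2 : ¬ K.map L.subtype ≤ M := fun h => hkM (h ⟨k, hk, rfl⟩)
    have h3 := hLmin (K.map L.subtype) ⟨h1, (map_subtype_le K).trans hLN, h2⟩
    rw [card_map_of_injective L.subtype_injective] at h3
    exact Subgroup.eq_top_of_le_card _ h3
  have hB'p : IsPGroup p B' :=
    (hS1p.to_le hBS1).comap_of_injective L.subtype L.subtype_injective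
  have hB'M : B' ≤ M' := fun b hb => hBM hb
  obtain ⟨T2, hT2⟩ := (hB'p.comap_of_injective M'.subtype M'.subtype_injective).exists_le_sylow
  set Q2 := (T2 : Subgroup M').map M'.subtype with hQ2
  have hQ2p : IsPGroup p Q2 := T2.2.map _
  have hQ2M : Q2 ≤ M' := map_subtype_le _
  have hBQ2 : B' ≤ Q2 := fun b hb => ⟨⟨b, hB'M hb⟩, hT2 hb, rfl⟩
  have hgood : normalizer (Q2 : Set L) ≤ M' := by
    by_contra hbad
    have htop : normalizer (Q2 : Set L) = ⊤ := by
      by_contra h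
      exact hbad (hmin' _ (hBQ2.trans le_normalizer) h)
    haveI hQ2n : Q2.Normal := normalizer_eq_top_iff.1 htop
    set Q := Q2.map L.subtype with hQ
    have hQp : IsPGroup p Q := hQ2p.map _
    have hQM : Q ≤ M := by
      rintro _ ⟨x, hx, rfl⟩
      exact hQ2M hx
    have hBQ : B ≤ Q := fun b hb => ⟨⟨b, hBL hb⟩, hBQ2 hb, rfl⟩
    have hLQ : L ≤ normalizer (Q : Set H) := fun l hl => by
      rw [mem_normalizer_iff_cnj_eq]
      have := Subgroup.Normal.map hQ2n L.subtype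
      ext y
      rw [mem_cnj]
      constructor
      · rintro ⟨x, hx, hxy⟩
        refine ⟨⟨l, hl⟩ * x * ⟨l, hl⟩⁻¹, hQ2n.conj_mem x hx _, ?_⟩
        have : (x : H) = l⁻¹ * y * l := hxy
        simp [this, mul_assoc]
      · rintro ⟨x, hx, rfl⟩
        exact ⟨⟨l, hl⟩⁻¹ * x * ⟨l, hl⟩⁻¹⁻¹, hQ2n.conj_mem x hx _, by simp⟩
    set Q' := P0 ⊔ offClosure p W Q with hQ'
    have hle : offClosure p W Q ≤ normalizer (P0 : Set H) :=
      ((offClosure_le Q).trans (map_subtype_le Q2)).trans hLN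
    have hQ'p : IsPGroup p Q' := hP0p.to_sup_of_normal_left' (hQp.to_le (offClosure_le Q)) hle
    have hQ'g : offClosure p W Q' = Q' := le_antisymm (offClosure_le _)
      (sup_le (hP0g ▸ offClosure_mono (p := p) (W := W) le_sup_left)
        (offClosure_idem (p := p) (W := W) Q ▸ offClosure_mono (p := p) (W := W) le_sup_right))
    have hLQ' : L ≤ normalizer (Q' : Set H) := fun l hl => by
      rw [mem_normalizer_iff_cnj_eq, hQ', cnj, Subgroup.map_sup, ← cnj,
        mem_normalizer_iff_cnj_eq.1 (hLN hl), ← cnj,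
        mem_normalizer_iff_cnj_eq.1 (normalizer_le_offClosure Q (hLQ hl))]
    have hc := hP0max Q' ⟨hQ'p, sup_le hP0M ((offClosure_le Q).trans hQM), hQ'g,
      fun h => hLM (hLQ'.trans h)⟩
    exact hBP0 (Subgroup.eq_of_le_of_card_ge le_sup_left hc ▸
      (le_offClosure hB hBQ).trans le_sup_right)
  obtain ⟨S', hS'⟩ := hQ2p.exists_le_sylow
  have hQ2S : Q2 = S' := by
    by_contra hne
    obtain ⟨Q', hlt, hle, hN⟩ := exists_gt_normalizing (p := p) S'.2 (lt_of_le_of_ne hS' hne)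
    have hQ'M : Q' ≤ M' := hN.trans hgood
    have hT2eq : Q'.subgroupOf M' = T2 := by
      refine T2.3 ((S'.2.to_le hle).comap_of_injective M'.subtype M'.subtype_injective) ?_
      intro x hx
      exact hlt.le ⟨x, hx, rfl⟩
    exact hlt.ne (by rw [hQ2, ← hT2eq, map_subgroupOf_eq_of_le hQ'M])
  have hgen : ∀ x : L, x ∉ M' → B' ⊔ cnj x B' = ⊤ := by
    intro x hx
    by_contra hne
    have h1 : cnj x B' ≤ M' := le_sup_right.trans (hmin' _ le_sup_left hne)
    have h2 : B' ≤ cnj x⁻¹ M' := by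
      have := cnj_mono x⁻¹ h1
      rwa [cnj_cnj, inv_mul_cancel, cnj_one] at this
    have h3 : cnj x⁻¹ M' ≤ M' := hmin' _ h2 (cnj_ne_top hM'ne)
    have h4 : cnj x⁻¹ M' = M' :=
      Subgroup.eq_of_le_of_card_ge h3 (by rw [card_cnj])
    have hxN : x ∈ normalizer (M' : Set L) := by
      have := mem_normalizer_iff_cnj_eq.2 h4
      simpa using inv_mem this
    have htop : normalizer (M' : Set L) = ⊤ := by
      by_contra h
      exact hx (hmin' _ (hB'M.trans le_normalizer) h hxN)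
    haveI : M'.Normal := normalizer_eq_top_iff.1 htop
    have := Sylow.normalizer_sup_eq_top T2
    exact hM'ne (eq_top_iff.2 (this.ge.trans (sup_le (by
      exact hgood) le_rfl)))
  have hfaith : FaithfulSMul L W := ⟨fun {a b} h => Subtype.ext (eq_of_smul_eq_smul h)⟩
  have hfaithV : FaithfulSMul L (tors W p) := ⟨fun {a b} h => Subtype.ext
    (hfV.eq_of_smul_eq_smul fun v => Subtype.ext (congrArg Subtype.val (h v)))⟩
  obtain ⟨h, m, hhM, hh1, hcop, hmove, htrans⟩ := exists_torus (L := L) hfaithV hp2 hWp T S' M' B'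
    (hQ2S ▸ hQ2M) (fun g => hM (g : H)) hM'ne (fun s hs t ht => by
      have hsM : (s : H) ∈ M := hQ2M (hQ2S ▸ hs)
      obtain ⟨m, hm, hle⟩ := hsylM ((S' : Subgroup L).map L.subtype) (S'.2.map _) (by
        rintro _ ⟨x, hx, rfl⟩
        exact hQ2M (hQ2S ▸ hx))
      have h1 := hfix _ (mem_cnj.1 (hle ⟨s, hs, rfl⟩)) (m⁻¹ • t) ((hM _).1 (M.inv_mem hm) t ht)
      rw [mul_smul, mul_smul, smul_inv_smul] at h1
      exact MulAction.injective _ h1)
    (hQ2S ▸ hBQ2) (fun h => hB.1 (by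
      rw [← map_subgroupOf_eq_of_le hBL, ← hB', h, Subgroup.map_bot]))
    (fun a ha => Subtype.ext (hB.2.1 a ha))
    (fun a ha b hb => Subtype.ext (hB.2.2.1 a ha b hb)) hgen
    (by rw [hB', meas_subgroupOf hBL]; exact hB.2.2.2.1)
    (fun B1 h1 h2 h3 => by
      have h1' : B1.map L.subtype ≤ B := by
        rintro _ ⟨b, hb, rfl⟩
        exact h1 hb
      have := hB.2.2.2.2 _ h1'
        (fun h => h2 ((Subgroup.map_eq_bot_iff_of_injective _ L.subtype_injective).1 h))
        (fun h => h3 (Subgroup.map_injective L.subtype_injective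
          (h.trans (map_subgroupOf_eq_of_le hBL).symm)))
      rw [hB', meas_subgroupOf hBL]
      rw [← meas_subgroupOf (V := W) (map_subtype_le B1)] at this
      rwa [show (B1.map L.subtype).subgroupOf L = B1 from
        comap_map_eq_self_of_injective L.subtype_injective B1] at this)
  have hsm : ∀ (i : ℕ) (w : W), ((h : H) ^ i) • w = (h ^ i) • w := fun i w => by
    rw [← SubgroupClass.coe_pow]; rfl
  refine ⟨h, m, hhM, by rw [← SubgroupClass.coe_pow, hh1, OneMemClass.coe_one], hcop, hmove,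
    fun a b ha hb ha0 hb0 => ?_⟩
  simp only [hsm] at ha hb ⊢
  exact htrans a b ha hb ha0 hb0

end Cfsg.Agent.Lib.WeakClosure87
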