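import Mathlib
import Cfsg.Agent.Lib.WeakClosure87.Offender87

/-!
A group with a normal `p`-subgroup `R` in which normalisers of larger subgroups of a Sylow subgroup
normalise a central subgroup `T`, and with an abelian subgroup of largest order outside `R`, has a
cyclic `p'`-subgroup normalising `T` and transitive on its commutator with `T`.
-/

set_option autoImplicit false

namespace Cfsg.Agent.Lib.WeakClosure87

open Subgroup
open Cfsg.Agent.Lib.SL2Recog

variable {L : Type*} [Group L] [Finite L] {p : ℕ} [hp : Fact p.Prime]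

theorem mem_normalizer_of_forall_conj_mem {T : Subgroup L} {g : L}
    (h : ∀ t ∈ T, g * t * g⁻¹ ∈ T) : g ∈ normalizer (T : Set L) := by
  refine mem_normalizer_iff_cnj_eq.2 (Subgroup.eq_of_le_of_card_ge ?_ (by rw [card_cnj]))
  rintro _ ⟨t, ht, rfl⟩
  exact h t ht

/-- **The torus in a group.** -/
theorem exists_torus_group (hp2 : p ≠ 2) (S0 : Sylow p L) (R T : Subgroup L) [hRn : R.Normal]
    (hRS : R ≤ S0) (hTR : T ≤ R) (hfix : (S0 : Subgroup L) ≤ centralizer (T : Set L))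
    (hH1 : ∀ Q : Subgroup L, R < Q → Q ≤ S0 → (S0 : Subgroup L) ≤ normalizer (Q : Set L) →
      normalizer (Q : Set L) ≤ normalizer (T : Set L))
    (hmove : ∃ g : L, g ∉ normalizer (T : Set L)) {A : Subgroup L} (hAS : A ≤ S0)
    (hA : ∀ a ∈ A, ∀ b ∈ A, a * b = b * a)
    (hAmax : ∀ B : Subgroup L, B ≤ S0 → (∀ a ∈ B, ∀ b ∈ B, a * b = b * a) →
      Nat.card B ≤ Nat.card A)
    (hAR : ¬ A ≤ R) :
    ∃ (g : L) (m : ℕ), g ∈ normalizer (T : Set L) ∧ (∀ t ∈ T, g ^ m * t * (g ^ m)⁻¹ = t) ∧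
      m.Coprime p ∧ (∃ t ∈ T, g * t * g⁻¹ ≠ t) ∧
      ∀ a b : L, a ∈ closure {y | ∃ i : ℕ, ∃ t ∈ T, y = g ^ i * t * (g ^ i)⁻¹ * t⁻¹} →
        b ∈ closure {y | ∃ i : ℕ, ∃ t ∈ T, y = g ^ i * t * (g ^ i)⁻¹ * t⁻¹} →
        a ≠ 1 → b ≠ 1 → ∃ i : ℕ, g ^ i * a * (g ^ i)⁻¹ = b := by
  classical
  set N := normalizer (T : Set L) with hN
  have hS0N : (S0 : Subgroup L) ≤ N := fun s hs => mem_normalizer_of_forall_conj_mem fun t ht => by
    rw [← mem_centralizer_iff.1 (hfix hs) t ht, mul_inv_cancel_right]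
    exact ht
  obtain ⟨L', ⟨hS0L, hL'N⟩, hL'min⟩ := Set.exists_min_image
    {K : Subgroup L | (S0 : Subgroup L) ≤ K ∧ ¬ K ≤ N} (fun K => Nat.card K) (Set.toFinite _)
    ⟨⊤, le_top, fun h => hmove.elim fun g hg => hg (h (mem_top g))⟩
  set gens : Set L := {y | ∃ g ∈ L', ∃ t ∈ T, y = g * t * g⁻¹} with hgens
  set W0 := closure gens with hW0
  have hTW : T ≤ W0 := fun t ht => subset_closure ⟨1, L'.one_mem, t, ht, by simp⟩
  have hW0R : W0 ≤ R := by
    rw [hW0, closure_le]
    rintro _ ⟨g, -, t, ht, rfl⟩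
    exact hRn.conj_mem t (hTR ht) g
  have hRW : R ≤ centralizer (W0 : Set L) := by
    rw [hW0, centralizer_closure]
    intro r hr
    refine mem_centralizer_iff.2 ?_
    rintro _ ⟨g, -, t, ht, rfl⟩
    have h1 : g⁻¹ * r * g ∈ R := by simpa using hRn.conj_mem r hr g⁻¹
    have h2 := mem_centralizer_iff.1 (hfix (hRS h1)) t ht
    calc g * t * g⁻¹ * r = g * (t * (g⁻¹ * r * g)) * g⁻¹ := by group
      _ = g * ((g⁻¹ * r * g) * t) * g⁻¹ := by rw [h2]
      _ = r * (g * t * g⁻¹) := by group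
  have hWc : ∀ x ∈ W0, ∀ y ∈ W0, x * y = y * x := fun x hx y hy =>
    (mem_centralizer_iff.1 (hRW (hW0R hy)) x hx)
  have hWnorm : ∀ g ∈ L', ∀ w ∈ W0, g * w * g⁻¹ ∈ W0 := by
    intro g hg
    have h : W0 ≤ W0.comap (MulAut.conj g).toMonoidHom := by
      rw [hW0, closure_le]
      rintro _ ⟨k, hk, t, ht, rfl⟩
      exact subset_closure ⟨g * k, L'.mul_mem hg hk, t, ht, by simp [mul_assoc]⟩
    exact fun w hw => h hw
  letI instCW : CommGroup W0 := { (inferInstance : Group W0) with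
    mul_comm := fun a b => Subtype.ext (hWc a a.2 b b.2) }
  letI act : DistribMulAction ↥L' (Additive W0) :=
    { smul := fun g v => Additive.ofMul (⟨_, hWnorm g g.2 _ v.toMul.2⟩ : W0)
      one_smul := fun v => Additive.toMul.injective (Subtype.ext (by
        show ((1 : ↥L') : L) * (v.toMul : W0) * ((1 : ↥L') : L)⁻¹ = (v.toMul : W0)
        simp))
      mul_smul := fun g h v => Additive.toMul.injective (Subtype.ext (by
        show ((g * h : ↥L') : L) * (v.toMul : W0) * ((g * h : ↥L') : L)⁻¹ =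
          (g : L) * ((h : L) * (v.toMul : W0) * (h : L)⁻¹) * (g : L)⁻¹
        simp [mul_assoc]))
      smul_zero := fun g => Additive.toMul.injective (Subtype.ext (by
        show (g : L) * ((1 : W0) : L) * (g : L)⁻¹ = ((1 : W0) : L)
        simp))
      smul_add := fun g v w => Additive.toMul.injective (Subtype.ext (by
        show (g : L) * (((v.toMul : W0) : L) * (w.toMul : W0)) * (g : L)⁻¹ =
          ((g : L) * (v.toMul : W0) * (g : L)⁻¹) * ((g : L) * (w.toMul : W0) * (g : L)⁻¹)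
        simp [mul_assoc])) }
  let ψ : ↥L' →* (AddMonoid.End (Additive W0))ˣ := MonoidHom.toHomUnits
    { toFun := fun g => DistribSMul.toAddMonoidHom (Additive W0) g
      map_one' := AddMonoidHom.ext fun w => one_smul _ w
      map_mul' := fun g g' => AddMonoidHom.ext fun w => mul_smul g g' w }
  set r := ψ.rangeRestrict with hr
  have hsurj : Function.Surjective r := ψ.rangeRestrict_surjective
  have : Finite ↥ψ.range := Finite.of_surjective _ hsurj
  set ofW : ∀ y : L, y ∈ W0 → Additive W0 := fun y hy => Additive.ofMul ⟨y, hy⟩ with hofW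
  set val : Additive W0 → L := fun w => ((w.toMul : W0) : L) with hval
  have hvinj : Function.Injective val := fun a b h => Additive.toMul.injective (Subtype.ext h)
  have hsmul : ∀ (g : ↥L') (w : Additive W0), val (r g • w) = (g : L) * val w * (g : L)⁻¹ :=
    fun g w => rfl
  have hker : ∀ k, k ∈ r.ker ↔ ∀ w ∈ W0, (k : L) * w * (k : L)⁻¹ = w := by
    intro k
    rw [MonoidHom.mem_ker]
    constructor
    · intro h w hw
      have h1 := hsmul k (ofW w hw)
      rw [h, one_smul] at h1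
      exact h1.symm
    · intro h
      refine eq_of_smul_eq_smul fun w : Additive W0 => hvinj ?_
      rw [one_smul, hsmul]
      exact h _ (w.toMul).2
  have hRL : R ≤ L' := hRS.trans hS0L
  have hRker : ∀ k : ↥L', (k : L) ∈ R → r k = 1 := fun k hk => MonoidHom.mem_ker.1 ((hker k).2
    fun w hw => by rw [← mem_centralizer_iff.1 (hRW hk) w hw, mul_inv_cancel_right])
  set P := (S0.subtype hS0L).mapSurjective hsurj with hP
  have hPc : (P : Subgroup ψ.range) = ((S0 : Subgroup L).subgroupOf L').map r := by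
    rw [hP, Sylow.coe_mapSurjective, Sylow.coe_subtype]
  set Ta : AddSubgroup (Additive W0) :=
    { carrier := {w | val w ∈ T}
      zero_mem' := T.one_mem
      add_mem' := fun {a b} ha hb => T.mul_mem ha hb
      neg_mem' := fun {a} ha => T.inv_mem ha } with hTa
  set M := ((N.subgroupOf L').map r) with hM
  have hMmem : ∀ y, y ∈ M ↔ ∀ t ∈ Ta, y • t ∈ Ta := by
    intro y
    obtain ⟨g, rfl⟩ := hsurj y
    constructor
    · rintro ⟨k, hk, hkg⟩ t ht
      rw [← hkg]
      show val (r k • t) ∈ T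
      rw [hsmul]
      exact (mem_normalizer_iff.1 hk _).1 ht
    · intro h
      refine ⟨g, mem_normalizer_of_forall_conj_mem fun t ht => ?_, rfl⟩
      have h1 : val (r g • ofW t (hTW ht)) ∈ T := h _ ht
      rwa [hsmul] at h1
  have hpre : ∀ g : ↥L', r g ∈ M → (g : L) ∈ N := fun g hg =>
    mem_normalizer_of_forall_conj_mem fun t ht => by
      have h1 : val (r g • ofW t (hTW ht)) ∈ T := (hMmem _).1 hg _ ht
      rwa [hsmul] at h1
  have hPM : (P : Subgroup ψ.range) ≤ M := by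
    rw [hPc]
    exact map_mono fun s hs => hS0N hs
  have hMne : M ≠ ⊤ := fun h => hL'N fun g hg => hpre ⟨g, hg⟩ (h ▸ mem_top _)
  have hPfix : ∀ s ∈ (P : Subgroup ψ.range), ∀ t ∈ Ta, s • t = t := by
    rw [hPc]
    rintro _ ⟨s, hs, rfl⟩ t ht
    refine hvinj ?_
    rw [hsmul, mul_inv_eq_iff_eq_mul]
    exact (mem_centralizer_iff.1 (hfix hs) _ ht).symm
  have hmax : ∀ K : Subgroup ψ.range, (P : Subgroup ψ.range) ≤ K → K = ⊤ ∨ K ≤ M := by
    intro K hK
    refine or_iff_not_imp_right.2 fun hKM => ?_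
    set K' := (K.comap r).map L'.subtype with hK'
    have h1 : (S0 : Subgroup L) ≤ K' := fun s hs =>
      ⟨⟨s, hS0L hs⟩, hK (hPc ▸ mem_map_of_mem r hs), rfl⟩
    have h2 : ¬ K' ≤ N := fun h => hKM fun y hy => by
      obtain ⟨g, rfl⟩ := hsurj y
      exact ⟨g, h ⟨g, hy, rfl⟩, rfl⟩
    have h3 := hL'min K' ⟨h1, h2⟩
    rw [hK', card_map_of_injective L'.subtype_injective] at h3
    rw [← map_comap_eq_self_of_surjective hsurj K, Subgroup.eq_top_of_le_card _ h3,
      map_top_of_surjective r hsurj]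
  -- normal `p`-subgroups of the image
  have hkey : ∀ Nn : Subgroup ψ.range, Nn.Normal → IsPGroup p Nn →
      ∀ s : ↥L', (s : L) ∈ (S0 : Subgroup L) → r s ∈ Nn → (s : L) ∈ R := by
    intro Nn hNn hNp s hs hsN
    set K1 := Nn.comap r with hK1
    haveI hK1n : K1.Normal := hNn.comap r
    set S' := S0.subtype hS0L with hS'
    set Q0 := (S' : Subgroup ↥L') ⊓ K1 with hQ0
    have hQ0p : IsPGroup p Q0 := S'.2.to_le inf_le_left
    obtain ⟨T2, hT2⟩ := (hQ0p.comap_of_injective K1.subtype K1.subtype_injective).exists_le_sylow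
    have hle : Q0 ≤ (T2 : Subgroup K1).map K1.subtype := fun x hx =>
      ⟨⟨x, hx.2⟩, hT2 (show x ∈ Q0 from hx), rfl⟩
    obtain ⟨Sg, hSg⟩ := (T2.2.map K1.subtype).exists_le_sylow
    obtain ⟨g, rfl⟩ := MulAction.exists_smul_eq (↥L') S' Sg
    have hQeq : Q0 = (T2 : Subgroup K1).map K1.subtype := by
      refine Subgroup.eq_of_le_of_card_ge hle ?_
      have h1 : (T2 : Subgroup K1).map K1.subtype ≤ cnj g Q0 := by
        intro x hx
        have h2 := hSg hx
        rw [coe_smul_sylow, mem_cnj] at h2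
        refine mem_cnj.2 ⟨h2, ?_⟩
        have := hK1n.conj_mem x (map_subtype_le _ hx) g⁻¹
        simpa using this
      exact (Subgroup.card_le_of_le h1).trans_eq (card_cnj g Q0)
    set Q := Q0.map L'.subtype with hQ
    have hQS : Q ≤ S0 := by
      rintro _ ⟨x, hx, rfl⟩
      exact hx.1
    have hRQ : R ≤ Q := fun x hx => ⟨⟨x, hRL hx⟩, ⟨hRS hx, by
      show r _ ∈ Nn
      rw [hRker _ hx]
      exact Nn.one_mem⟩, rfl⟩
    have hsQ : (s : L) ∈ Q := ⟨s, ⟨hs, hsN⟩, rfl⟩
    rcases hRQ.lt_or_eq with hlt | heq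
    · exfalso
      refine hL'N ?_
      have hQn : (S0 : Subgroup L) ≤ normalizer (Q : Set L) := fun x hx => by
        refine mem_normalizer_of_forall_conj_mem ?_
        rintro _ ⟨y, hy, rfl⟩
        have hxS : (⟨x, hS0L hx⟩ : ↥L') ∈ (S' : Subgroup ↥L') := hx
        exact ⟨⟨x, hS0L hx⟩ * y * ⟨x, hS0L hx⟩⁻¹, Subgroup.mem_inf.2
          ⟨(S' : Subgroup ↥L').mul_mem ((S' : Subgroup ↥L').mul_mem hxS hy.1)
            ((S' : Subgroup ↥L').inv_mem hxS), hK1n.conj_mem y hy.2 _⟩, rfl⟩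
      have hNQ := hH1 Q hlt hQS hQn
      have hK1N : K1 ≤ N.subgroupOf L' := by
        intro k hk
        have hk' : r k ∈ (P : Subgroup ψ.range) := hNp.le_sylow_of_normal P hk
        rw [hPc] at hk'
        obtain ⟨x, hx, hxk⟩ := hk'
        refine hpre k ?_
        rw [← hxk]
        exact hPM (hPc ▸ mem_map_of_mem r hx)
      have hfr := Sylow.normalizer_sup_eq_top T2
      intro y hy
      have hy' : (⟨y, hy⟩ : ↥L') ∈ (⊤ : Subgroup ↥L') := mem_top _
      rw [← hfr] at hy'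
      refine (sup_le ?_ hK1N : _ ≤ N.subgroupOf L') hy'
      intro x hx
      refine hNQ (mem_normalizer_of_forall_conj_mem ?_)
      rintro _ ⟨z, hz, rfl⟩
      refine ⟨x * z * x⁻¹, ?_, by simp⟩
      rw [hQeq] at hz ⊢
      exact (mem_normalizer_iff.1 hx z).1 hz
    · rw [← heq] at hsQ
      exact hsQ
  have hcore : ∀ Nn : Subgroup ψ.range, Nn.Normal → IsPGroup p Nn → Nn = ⊥ := by
    intro Nn hNn hNp
    refine (eq_bot_iff_forall _).2 fun y hy => ?_
    have hy' : y ∈ (P : Subgroup ψ.range) := hNp.le_sylow_of_normal P hy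
    rw [hPc] at hy'
    obtain ⟨s, hs, rfl⟩ := hy'
    exact hRker s (hkey Nn hNn hNp s hs hy)
  set A' := A.subgroupOf L' with hA'
  set Ab := A'.map r with hAb
  have hAL : A ≤ L' := hAS.trans hS0L
  have hAb1 : Ab ≠ ⊥ := fun h => hAR fun a ha => hkey ⊥ inferInstance IsPGroup.of_bot
    ⟨a, hAL ha⟩ (hAS ha) (h ▸ mem_map_of_mem r (show (⟨a, hAL ha⟩ : ↥L') ∈ A' from ha))
  have hAW : Nat.card (Additive W0) ≤ meas (Additive W0) Ab := by
    set A0 := (A' ⊓ r.ker).map L'.subtype with hA0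
    have hA0A : A0 ≤ A := by
      rintro _ ⟨x, hx, rfl⟩
      exact hx.1
    have hA0c : ∀ a ∈ A0, ∀ w ∈ W0, a * w = w * a := by
      rintro _ ⟨x, hx, rfl⟩ w hw
      exact mul_inv_eq_iff_eq_mul.1 ((hker x).1 hx.2 w hw)
    set C := A0 ⊔ W0 with hC
    have hCS : C ≤ S0 := sup_le (hA0A.trans hAS) (hW0R.trans hRS)
    have hCc : ∀ a ∈ C, ∀ b ∈ C, a * b = b * a := by
      have hs : C ≤ centralizer (C : Set L) := by
        rw [hC]
        refine sup_le ?_ ?_ <;> rw [le_centralizer_iff] <;> refine sup_le ?_ ?_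
        · exact fun a ha => mem_centralizer_iff.2 fun b hb => hA b (hA0A hb) a (hA0A ha)
        · exact fun w hw => mem_centralizer_iff.2 fun a ha => hA0c a ha w hw
        · exact fun a ha => mem_centralizer_iff.2 fun w hw => (hA0c a ha w hw).symm
        · exact fun w hw => mem_centralizer_iff.2 fun v hv => hWc v hv w hw
      exact fun a ha b hb => mem_centralizer_iff.1 (hs hb) a ha
    have h1 := card_sup_mul_inf' hCc (le_sup_left : A0 ≤ C) (le_sup_right : W0 ≤ C)
    have h2 : Nat.card A = Nat.card Ab * Nat.card A0 := by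
      rw [hA0, card_map_of_injective L'.subtype_injective, hAb, card_inf_ker_mul,
        hA', Nat.card_congr (subgroupOfEquivOfLe hAL).toEquiv]
    have h3 : Nat.card ↥(A0 ⊓ W0) ≤ Nat.card (fx (Additive W0) Ab) := by
      refine Nat.card_le_card_of_injective (fun x => ⟨ofW x x.2.2, ?_⟩) ?_
      · rintro _ ⟨a, ha, rfl⟩
        refine hvinj ?_
        rw [hsmul]
        exact mul_inv_eq_iff_eq_mul.2 (hA a ha x (hA0A x.2.1))
      · intro x y h
        exact Subtype.ext (congrArg val (congrArg Subtype.val h))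
    have h4 : Nat.card A0 * Nat.card (Additive W0) ≤ Nat.card A0 * meas (Additive W0) Ab := by
      rw [show Nat.card (Additive W0) = Nat.card W0 from Nat.card_congr Additive.toMul, ← h1, meas]
      calc Nat.card C * Nat.card ↥(A0 ⊓ W0)
          ≤ Nat.card A * Nat.card (fx (Additive W0) Ab) :=
            Nat.mul_le_mul (hAmax C hCS hCc) h3
        _ = _ := by rw [h2]; ring
    exact Nat.le_of_mul_le_mul_left h4 Nat.card_pos
  have hWp : ∀ w : Additive W0, ∃ k : ℕ, p ^ k • w = 0 := fun w => by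
    obtain ⟨k, hk⟩ := (S0.2.to_le (hW0R.trans hRS)) w.toMul
    exact ⟨k, Additive.toMul.injective (by rw [toMul_nsmul, hk]; rfl)⟩
  obtain ⟨h, m, hhM, hh1, hcop, ⟨t0, ht0, ht0m⟩, htrans⟩ := exists_torus_of_offender
    (A := Ab) hp2 hWp P Ta M hPM hMmem hMne hPfix hmax hcore
    (hPc ▸ map_mono fun a ha => hAS ha)
    (by
      rintro _ ⟨a, ha, rfl⟩ _ ⟨b, hb, rfl⟩
      rw [← map_mul, ← map_mul, show a * b = b * a from Subtype.ext (hA a ha b hb)])
    hAb1 hAW
  obtain ⟨g, rfl⟩ := hsurj h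
  have hpow : ∀ (i : ℕ) (w : Additive W0),
      val ((r g) ^ i • w) = (g : L) ^ i * val w * ((g : L) ^ i)⁻¹ := fun i w => by
    rw [← map_pow, hsmul, SubgroupClass.coe_pow]
  refine ⟨g, m, hpre g hhM, fun t ht => ?_, hcop, ⟨val t0, ht0, fun h => ht0m (hvinj ?_)⟩,
    fun a b ha hb ha1 hb1 => ?_⟩
  · have := hpow m (ofW t (hTW ht))
    rw [hh1, one_smul] at this
    exact this.symm
  · rw [hsmul]
    exact h
  · set D := AddSubgroup.closure {d | ∃ i : ℕ, ∃ t ∈ Ta, d = (r g) ^ i • t - t} with hD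
    let DL : Subgroup L :=
      { carrier := {y | ∃ w ∈ D, val w = y}
        one_mem' := ⟨0, D.zero_mem, rfl⟩
        mul_mem' := by
          rintro _ _ ⟨v, hv, rfl⟩ ⟨w, hw, rfl⟩
          exact ⟨v + w, D.add_mem hv hw, rfl⟩
        inv_mem' := by
          rintro _ ⟨v, hv, rfl⟩
          exact ⟨-v, D.neg_mem hv, rfl⟩ }
    have hle : closure {y | ∃ i : ℕ, ∃ t ∈ T, y = (g : L) ^ i * t * ((g : L) ^ i)⁻¹ * t⁻¹} ≤ DL := by
      rw [closure_le]
      rintro _ ⟨i, t, ht, rfl⟩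
      refine ⟨_, AddSubgroup.subset_closure ⟨i, ofW t (hTW ht), ht, rfl⟩, ?_⟩
      rw [sub_eq_add_neg]
      show val ((r g) ^ i • ofW t (hTW ht)) * t⁻¹ = _
      rw [hpow]
      rfl
    obtain ⟨v, hv, rfl⟩ := hle ha
    obtain ⟨w, hw, rfl⟩ := hle hb
    obtain ⟨i, hi⟩ := htrans v w hv hw (fun h => ha1 (h ▸ rfl)) (fun h => hb1 (h ▸ rfl))
    exact ⟨i, by rw [← hpow, hi]⟩

end Cfsg.Agent.Lib.WeakClosure87
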